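import Mathlib

/-!
# Endomorphisms of short exact sequences and semilinear bijectivity
-/

set_option autoImplicit false

universe v u w' w

open CategoryTheory CategoryTheory.Limits Abelian

namespace Groth.Agent.NormSeq24

section Semilinear

variable {k : Type u} [Field k] {p : ℕ} [Fact p.Prime] [CharP k p] [PerfectRing k p]
  {M : Type v} [AddCommGroup M] [Module k M] [Module.Finite k M]

/-- A `p`-linear endomorphism of a finite-dimensional space over a perfect field. -/
theorem injective_iff_surjective_of_semilinear (f : M →+ M) (hf : ∀ (c : k) (x : M), f (c • x) = c ^ p • f x) :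
    Function.Injective f ↔ Function.Surjective f := by
  let b := Module.finBasis k M
  let L : M →ₗ[k] M := b.constr k (fun i => f (b i))
  let Ψ : M → M := fun x => b.equivFun.symm (fun i => (b.equivFun x i) ^ p)
  have hΨ : Function.Bijective Ψ := by
    show Function.Bijective (b.equivFun.symm ∘ (fun w : Fin (Module.finrank k M) → k => fun i => w i ^ p) ∘ b.equivFun)
    refine b.equivFun.symm.bijective.comp (Function.Bijective.comp ?_ b.equivFun.bijective)
    exact ⟨fun x y h => funext fun i => frobenius_inj k p (congrFun h i),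
      fun y => ⟨fun i => ((frobeniusEquiv k p).symm (y i)), funext fun i => (frobeniusEquiv k p).apply_symm_apply (y i)⟩⟩
  have hfL : ⇑f = L ∘ Ψ := funext fun x => by
    conv_lhs => rw [← b.sum_equivFun x, map_sum]
    simp only [hf]
    simp only [Function.comp_apply, Ψ, L, Module.Basis.constr_apply_fintype, LinearEquiv.apply_symm_apply]
  rw [hfL]
  constructor
  · intro h
    have : Function.Injective L := (Function.Injective.of_comp_iff' (f := L) hΨ).1 h
    exact (LinearMap.injective_iff_surjective.1 this).comp hΨ.2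
  · intro h
    exact (LinearMap.injective_iff_surjective.2 h.of_comp).comp hΨ.1

end Semilinear

variable {A : Type u} [Category.{v} A] [Abelian A] [HasExt.{w} A] {S : ShortComplex A} (hS : S.ShortExact)
  (τ : S ⟶ S) (Z : A) (n : ℕ)



include hS in
/-- An injectivity chase along the long exact sequence. -/
theorem injective_of_chase
    (h2 : Function.Injective ((Ext.mk₀ τ.τ₂).postcomp Z (add_zero (n + 1))))
    (h2' : Function.Surjective ((Ext.mk₀ τ.τ₂).postcomp Z (add_zero n)))
    (h3 : Function.Injective ((Ext.mk₀ τ.τ₃).postcomp Z (add_zero n))) :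
    Function.Injective ((Ext.mk₀ τ.τ₁).postcomp Z (add_zero (n + 1))) := by
  refine (injective_iff_map_eq_zero _).2 fun x hx => ?_
  change x.comp (Ext.mk₀ τ.τ₁) (add_zero _) = 0 at hx
  have hux : x.comp (Ext.mk₀ S.f) (add_zero _) = 0 := by
    refine (injective_iff_map_eq_zero _).1 h2 _ ?_
    show (x.comp (Ext.mk₀ S.f) (add_zero _)).comp (Ext.mk₀ τ.τ₂) (add_zero _) = 0
    rw [Ext.comp_assoc_of_third_deg_zero, Ext.mk₀_comp_mk₀, ← τ.comm₁₂, ← Ext.mk₀_comp_mk₀,
      ← Ext.comp_assoc_of_third_deg_zero, hx, Ext.zero_comp]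
  obtain ⟨q, rfl⟩ := Ext.covariant_sequence_exact₁ Z hS x hux rfl
  rw [Ext.comp_assoc_of_third_deg_zero, hS.extClass_naturality hS τ,
    ← Ext.comp_assoc_of_second_deg_zero] at hx
  obtain ⟨t, ht⟩ := Ext.covariant_sequence_exact₃ Z hS (q.comp (Ext.mk₀ τ.τ₃) (add_zero n)) rfl hx
  obtain ⟨r, rfl⟩ := h2' t
  have hq : q = r.comp (Ext.mk₀ S.g) (add_zero n) := h3 (by
    show q.comp (Ext.mk₀ τ.τ₃) (add_zero n) = (r.comp (Ext.mk₀ S.g) (add_zero n)).comp (Ext.mk₀ τ.τ₃) (add_zero n)
    refine ht.symm.trans ?_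
    show (r.comp (Ext.mk₀ τ.τ₂) (add_zero n)).comp (Ext.mk₀ S.g) (add_zero n) = _
    rw [Ext.comp_assoc_of_third_deg_zero, Ext.comp_assoc_of_third_deg_zero, Ext.mk₀_comp_mk₀, Ext.mk₀_comp_mk₀,
      τ.comm₂₃])
  rw [hq, Ext.comp_assoc_of_second_deg_zero, hS.comp_extClass, Ext.comp_zero]

end Groth.Agent.NormSeq24
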