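import Groth.Agent.NormSeq24.Root
import Groth.Agent.NormSeq24.Chase
import Groth.Agent.Hyper24.BiratH1
import Groth.Agent.SerreDual.PushEquiv
import Groth.Agent.NodeLib7.Point
import Groth.Agent.NodeLib7.Geometric
import Groth.Agent.CAlgH3.RegularLocal
import Groth.Agent.TopDim.Basic
import Groth.Prelude.Def_Pi1

/-!
# Frobenius on `H¹(O)` of a nodal curve and of its normalisation
-/

set_option autoImplicit false
set_option linter.style.haveILetI false
set_option backward.isDefEq.respectTransparency.types false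
set_option maxHeartbeats 1000000

universe u

open CategoryTheory CategoryTheory.Limits CategoryTheory.Abelian AlgebraicGeometry Opposite TopologicalSpace IsLocalRing
open Groth.Agent.Coherent

attribute [local instance] Curv2.stalkAlgebra Curv2.resAlgebra

namespace Groth.Agent.NormSeq24

theorem dim_le_one {T : Type u} [TopologicalSpace T]
    (h : ∀ Z ∈ irreducibleComponents T, topologicalKrullDim Z = 1) : topologicalKrullDim T ≤ 1 := by
  refine TopDim.dim_le_iff.2 fun l => ?_
  obtain ⟨Z, hZ, hle⟩ := exists_mem_irreducibleComponents_subset_of_isIrreducible _ l.last.isIrreducible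
  exact (TopDim.le_dim_of_subset l Z hle).trans (h Z hZ).le

theorem isReduced_of_isNormalScheme {Z : Scheme.{u}} (h : Pi1.IsNormalScheme Z) : IsReduced Z :=
  haveI : ∀ z : Z, _root_.IsReduced (Z.presheaf.stalk z) := fun z => by
    haveI := (h z).1
    infer_instance
  isReduced_of_isReduced_stalk Z

variable {k : Type u} [Field k] [IsAlgClosed k] {p : ℕ} [Fact p.Prime] [CharP k p]

omit [IsAlgClosed k] in
theorem smul_frob {X : Scheme.{u}} [X.Over (Spec (CommRingCat.of k))]
    (φ : Coh.toAb (Coh.structureModule X) ⟶ Coh.toAb (Coh.structureModule X))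
    (hφ : ∀ (V : X.Opens) (s : Γ(X, V)), (φ.hom.app (op V)).hom s = s ^ p) (n : ℕ) (c : k)
    (x : Coh.HH X (Coh.structureModule X) n) :
    Sheaf.H.map φ n (c • x) = c ^ p • Sheaf.H.map φ n x := by
  let r := Coh.toGlobal (X ↘ Spec (CommRingCat.of k)) c
  show Sheaf.H.map φ n (Sheaf.H.map (Coh.smulAb _ r) n x) =
    Sheaf.H.map (Coh.smulAb _ (Coh.toGlobal (X ↘ Spec (CommRingCat.of k)) (c ^ p))) n (Sheaf.H.map φ n x)
  rw [← Sheaf.H.map_comp_apply, ← Sheaf.H.map_comp_apply]
  refine congrArg (fun θ => Sheaf.H.map θ n x) ?_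
  ext V s
  let a : Γ(X, V.unop) := Coh.resTop X V r
  let b : Γ(X, V.unop) := Coh.resTop X V (Coh.toGlobal (X ↘ Spec (CommRingCat.of k)) (c ^ p))
  let t : Γ(X, V.unop) := s
  refine (hφ V.unop (a * t)).trans (Eq.trans ?_ (congrArg (fun z : Γ(X, V.unop) => b * z) (hφ V.unop t)).symm)
  rw [mul_pow]
  congr 1
  show _ = Coh.resTop X V (Coh.toGlobal (X ↘ Spec (CommRingCat.of k)) (c ^ p))
  rw [map_pow, map_pow]
  rfl

theorem frob_injective_iff {X : Scheme.{u}} [X.Over (Spec (CommRingCat.of k))]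
    [IsProper (X ↘ Spec (CommRingCat.of k))]
    (φ : Coh.toAb (Coh.structureModule X) ⟶ Coh.toAb (Coh.structureModule X))
    (hφ : ∀ (V : X.Opens) (s : Γ(X, V)), (φ.hom.app (op V)).hom s = s ^ p) (n : ℕ) :
    Function.Injective (Sheaf.H.map φ n) ↔ Function.Surjective (Sheaf.H.map φ n) := by
  haveI := CurveRR24.isLocallyNoetherian_of_proper k (X := X)
  haveI := CurveRR24.finite_HH_of_isCoh k (isCoh_structureModule X) n
  exact injective_iff_surjective_of_semilinear (k := k) (p := p) (M := Coh.HH X (Coh.structureModule X) n)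
    (Sheaf.H.map φ n) (smul_frob φ hφ n)

omit [IsAlgClosed k] [CharP k p] in
theorem frob_h0_injective {X : Scheme.{u}} [IsReduced X]
    (φ : Coh.toAb (Coh.structureModule X) ⟶ Coh.toAb (Coh.structureModule X))
    (hφ : ∀ (V : X.Opens) (s : Γ(X, V)), (φ.hom.app (op V)).hom s = s ^ p) :
    Function.Injective (Sheaf.H.map φ 0) := by
  refine (injective_iff_map_eq_zero _).2 fun z hz => ?_
  have hT : Limits.IsTerminal (⊤ : X.Opens) := isTerminalTop
  apply (Sheaf.H.equiv₀ (Coh.toAb (Coh.structureModule X)) hT).injective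
  rw [map_zero]
  have h := (Sheaf.H.equiv₀_naturality hT φ z).trans (by rw [hz, map_zero])
  obtain ⟨s, hs⟩ : ∃ s : Γ(X, ⊤), s = Sheaf.H.equiv₀ (Coh.toAb (Coh.structureModule X)) hT z := ⟨_, rfl⟩
  rw [← hs] at h ⊢
  have h' : (show Γ(X, ⊤) from s) ^ p = (0 : Γ(X, ⊤)) := (hφ ⊤ s).symm.trans h
  have h'' : (show Γ(X, ⊤) from s) = 0 := eq_zero_of_pow_eq_zero h'
  exact h''

/-- At a point of a nodal curve the ring is closed under `p`-th roots of its fractions. -/
theorem dvd_of_pow_dvd_stalk (C : Scheme.{u}) [C.Over (Spec (CommRingCat.of k))]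
    [IsProper (C ↘ Spec (CommRingCat.of k))] (hnod : Curv2.AtWorstNodal k C) (x : C)
    (hx : IsClosed ({x} : Set C)) {a b : C.presheaf.stalk x} (hb : b ∈ nonZeroDivisors (C.presheaf.stalk x))
    (h : b ^ p ∣ a ^ p) : b ∣ a := by
  rcases hnod x hx with ⟨V, hxV, hsm⟩ | hnode
  · let S := ((V : C.Opens) : Scheme.{u}).presheaf.stalk ⟨x, hxV⟩
    haveI := VarietyLib.isRegularLocalRing_stalk_of_smooth k _ (V.ι ≫ (C ↘ Spec (CommRingCat.of k))) ⟨x, hxV⟩
    haveI : IsRegularLocalRing (C.presheaf.stalk x) :=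
      IsRegularLocalRing.of_ringEquiv (V.stalkIso ⟨x, hxV⟩).commRingCatIsoToRingEquiv
    haveI := CAlgH3.isDomain_of_isRegularLocalRing (C.presheaf.stalk x)
    haveI := CAlgH3.isIntegrallyClosed_of_regular (C.presheaf.stalk x)
    exact dvd_of_pow_dvd_of_isIntegrallyClosed (Fact.out : p.Prime).ne_zero h
  · obtain ⟨-, -, u, v, a', b', c', hd⟩ := ((NodeLib7.isNode_iff k C x).1 hnode)
    haveI := NodeLib7.isNoetherianRing_stalk k C x
    haveI := (NodeLib7.isClosed_iff_finite k C x).1 hx
    obtain ⟨e, -⟩ := NodeLib7.exists_split_equiv (algebraMap k (C.presheaf.stalk x))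
      (IsAlgClosed.algebraMap_bijective_of_isIntegral (k := k) (K := ResidueField (C.presheaf.stalk x))) hd
    exact dvd_of_pow_dvd_of_completion e hb h

variable (C : Scheme.{u}) [C.Over (Spec (CommRingCat.of k))] [IsReduced C]
  [IsProper (C ↘ Spec (CommRingCat.of k))]

theorem frob_bijective_iff (hdim : ∀ Z ∈ irreducibleComponents (C : Type u), topologicalKrullDim Z = 1)
    (hnod : Curv2.AtWorstNodal k C)
    (C' : Scheme.{u}) (π : C' ⟶ C) [IsFinite π] (hC' : Pi1.IsNormalScheme C')
    (U : C.Opens) (hU : Dense (U : Set C)) (hU' : Dense ((π ⁻¹ᵁ U : C'.Opens) : Set C')) (hπU : IsIso (π ∣_ U))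
    (φ : Coh.toAb (Coh.structureModule C) ⟶ Coh.toAb (Coh.structureModule C))
    (hφ : ∀ (V : C.Opens) (s : Γ(C, V)), (φ.hom.app (op V)).hom s = s ^ p)
    (φ' : Coh.toAb (Coh.structureModule C') ⟶ Coh.toAb (Coh.structureModule C'))
    (hφ' : ∀ (V : C'.Opens) (s : Γ(C', V)), (φ'.hom.app (op V)).hom s = s ^ p) :
    Function.Bijective (Sheaf.H.map φ 1) ↔ Function.Bijective (Sheaf.H.map φ' 1) := by
  letI : C'.Over (Spec (CommRingCat.of k)) := ⟨π ≫ (C ↘ Spec (CommRingCat.of k))⟩
  haveI : IsProper (C' ↘ Spec (CommRingCat.of k)) :=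
    inferInstanceAs (IsProper (π ≫ (C ↘ Spec (CommRingCat.of k))))
  haveI := isReduced_of_isNormalScheme hC'
  haveI := CurveRR24.isLocallyNoetherian_of_proper k (X := C)
  haveI := CurveRR24.isLocallyNoetherian_of_proper k (X := C')
  haveI hq' : Coh.IsQCoh (Coh.structureModule C') := (isCoh_structureModule C').1
  haveI := hπU
  have hd1 : topologicalKrullDim C ≤ 1 := dim_le_one hdim
  let M := (Coh.push π).obj (Coh.structureModule C')
  let u : Coh.structureModule C ⟶ M := ClSub.unitToPush π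
  haveI : Mono u := mono_of_sections_injective u fun V => app_injective π hU V
  let S : ShortComplex C.Modules := ShortComplex.mk u (cokernel.π u) (cokernel.condition u)
  have hS : S.ShortExact :=
    { exact := ShortComplex.exact_of_g_is_cokernel _ (cokernelIsCokernel u) }
  have hS' := toAb_shortExact hS
  let ψ : Coh.toAb M ⟶ Coh.toAb M := (pushSh (X := C'.toTopCat) (Y := C.toTopCat) π.base).map φ'
  have hψ : ∀ (V : C.Opens) (s : Γ(C', π ⁻¹ᵁ V)), (ψ.hom.app (op V)).hom s = s ^ p := fun V s => hφ' _ s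
  have hcomm : φ ≫ (toAbFunctor C).map u = (toAbFunctor C).map u ≫ ψ := by
    ext V s
    show π.app V.unop ((φ.hom.app (op V.unop)).hom (show Γ(C, V.unop) from s)) =
      (ψ.hom.app (op V.unop)).hom (π.app V.unop (show Γ(C, V.unop) from s))
    rw [hφ, hψ, map_pow]
  haveI : Epi (S.map (toAbFunctor C)).g := hS'.epi_g
  let τ3 : Coh.toAb (cokernel u) ⟶ Coh.toAb (cokernel u) :=
    hS'.gIsCokernel.desc (CokernelCofork.ofπ (ψ ≫ (toAbFunctor C).map (cokernel.π u)) (by
      refine (Category.assoc _ _ _).symm.trans ((congrArg (fun θ => θ ≫ _) hcomm.symm).trans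
        ((Category.assoc _ _ _).trans ((congrArg (fun θ => φ ≫ θ)
          (((toAbFunctor C).map_comp u (cokernel.π u)).symm.trans
            ((congrArg (toAbFunctor C).map (cokernel.condition u)).trans ((toAbFunctor C).map_zero _ _)))).trans comp_zero)))))
  have hτ3 : (toAbFunctor C).map (cokernel.π u) ≫ τ3 = ψ ≫ (toAbFunctor C).map (cokernel.π u) :=
    hS'.gIsCokernel.fac _ WalkingParallelPair.one
  let τ : S.map (toAbFunctor C) ⟶ S.map (toAbFunctor C) :=
    { τ₁ := φ, τ₂ := ψ, τ₃ := τ3, comm₁₂ := hcomm, comm₂₃ := hτ3.symm }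
  -- the induced map on the cokernel is injective
  have h3 : Function.Injective (Sheaf.H.map τ3 0) := by
    refine (injective_iff_map_eq_zero _).2 fun z hz => ?_
    have hT : Limits.IsTerminal (⊤ : C.Opens) := isTerminalTop
    apply (Sheaf.H.equiv₀ (Coh.toAb (cokernel u)) hT).injective
    rw [map_zero]
    let q : Γ(cokernel u, ⊤) := Sheaf.H.equiv₀ (Coh.toAb (cokernel u)) hT z
    have hq : (τ3.hom.app (op ⊤)).hom q = 0 :=
      (Sheaf.H.equiv₀_naturality hT τ3 z).trans (by rw [hz, map_zero])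
    show q = 0
    refine TopCat.Presheaf.section_ext ⟨(cokernel u).presheaf, (cokernel u).isSheaf⟩ ⊤ q 0 fun x _ => ?_
    show (cokernel u).presheaf.germ ⊤ x trivial q = (cokernel u).presheaf.germ ⊤ x trivial 0
    rw [map_zero]
    obtain ⟨O, hO, hxO, s, hs⟩ := exists_lift_of_epi (cokernel.π u) ⊤ q x trivial
    have hgs : (cokernel.π u).app O ((ψ.hom.app (op O)).hom s) = 0 := by
      have h1 := ConcreteCategory.congr_hom (congrArg (fun θ : Coh.toAb M ⟶ Coh.toAb (cokernel u) =>
        θ.hom.app (op O)) hτ3) s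
      refine h1.symm.trans ?_
      show (τ3.hom.app (op O)).hom ((cokernel.π u).app O s) = 0
      rw [hs]
      refine (ConcreteCategory.congr_hom (τ3.hom.naturality (homOfLE hO).op) q).trans ?_
      show (Coh.toAb (cokernel u)).obj.map _ ((τ3.hom.app (op ⊤)).hom q) = 0
      rw [hq, map_zero]
    obtain ⟨c, hc⟩ := sections_exact hS _ hgs
    have hc' : π.app O c = (show Γ(C', π ⁻¹ᵁ O) from s) ^ p := hc.trans (hψ O s)
    obtain ⟨W, hWO, hxW, t, ht⟩ : ∃ (W : C.Opens) (hW : W ≤ O), x ∈ W ∧ ∃ t : Γ(C, W),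
        π.app W t = C'.presheaf.map (homOfLE (π.preimage_mono hW)).op (show Γ(C', π ⁻¹ᵁ O) from s) := by
      by_cases hxU : x ∈ U
      · haveI := BlowUpLib.isIso_app_of_le π U (inf_le_right : O ⊓ U ≤ U)
        obtain ⟨t, ht⟩ := (ConcreteCategory.bijective_of_isIso (π.app (O ⊓ U))).2
          (C'.presheaf.map (homOfLE (π.preimage_mono inf_le_left)).op (show Γ(C', π ⁻¹ᵁ O) from s))
        exact ⟨O ⊓ U, inf_le_left, ⟨hxO, hxU⟩, t, ht⟩
      · exact exists_lift_of_pow π hU hU' x
          (fun a b hb h => dvd_of_pow_dvd_stalk C hnod x ((Hyper24.finite_compl_dense k hd1 hU).2 x hxU) hb h)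
          hxO _ c hc'
    rw [← TopCat.Presheaf.germ_res_apply (cokernel u).presheaf (homOfLE (hWO.trans hO)) x hxW]
    refine Eq.trans (congrArg _ ?_) (map_zero _)
    show resM (cokernel u) (hWO.trans hO) q = 0
    have h0 : resM (cokernel u) (hWO.trans hO) q = resM (cokernel u) hWO (resM (cokernel u) hO q) :=
      (resM_resM (cokernel u) hO hWO q).symm
    rw [h0, ← hs, ← app_resM, show resM M hWO s = u.app W t from ht.symm]
    exact sections_zero (S := S) W t
  have hU1 : Function.Surjective ((Ext.mk₀ (S.map (toAbFunctor C)).f).postcomp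
      ((constantSheaf (Opens.grothendieckTopology C) AddCommGrpCat).obj (AddCommGrpCat.of (ULift ℤ))) (add_zero 1)) := by
    intro y
    obtain ⟨hZ, hc⟩ := Hyper24.finite_compl_dense k hd1 hU
    haveI : IsClosedImmersion (π ∣_ U) := inferInstance
    haveI : Subsingleton (Coh.HH C (cokernel u) 1) :=
      subsingleton_HH_of_support_finite (cokernel u) _ hZ hc
        (Hyper24.support_cokernel_unitToPush π inferInstance) 1 one_pos
    exact Ext.covariant_sequence_exact₂ _ hS' y (@Subsingleton.elim (Coh.HH C (cokernel u) 1) _ _ _)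
  have hnat : ∀ n, Function.Bijective (Sheaf.H.map ψ n) ↔ Function.Bijective (Sheaf.H.map φ' n) := fun n => by
    let e := HHAffinePushEquiv π (Coh.structureModule C') n
    have h : Sheaf.H.map ψ n ∘ e = e ∘ Sheaf.H.map φ' n :=
      funext fun x => (SerreDual.hhAffinePush_natural π φ' ψ rfl n x).symm
    constructor
    · intro hb
      exact (Function.Bijective.of_comp_iff' e.bijective _).1 (h ▸ hb.comp e.bijective)
    · intro hb
      exact (Function.Bijective.of_comp_iff _ e.bijective).1 (h ▸ e.bijective.comp hb)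
  constructor
  · intro hb
    refine (and_iff_right_of_imp fun hs => (frob_injective_iff (k := k) φ' hφ' 1).2 hs).2 ?_
    have hs : Function.Surjective (Sheaf.H.map ψ 1) := fun y => by
      obtain ⟨x, hx⟩ := hU1 y
      obtain ⟨x', rfl⟩ := hb.2 x
      refine ⟨Sheaf.H.map ((toAbFunctor C).map u) 1 x', ?_⟩
      refine Eq.trans ?_ hx
      exact (Sheaf.H.map_comp_apply ((toAbFunctor C).map u) ψ x').symm.trans
        ((congrArg (fun θ => Sheaf.H.map θ 1 x') hcomm.symm).trans
          (Sheaf.H.map_comp_apply φ ((toAbFunctor C).map u) x'))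
    intro z
    obtain ⟨y, hy⟩ := hs (HHAffinePushEquiv π (Coh.structureModule C') 1 z)
    obtain ⟨x, rfl⟩ := (HHAffinePushEquiv π (Coh.structureModule C') 1).surjective y
    exact ⟨x, (HHAffinePushEquiv π (Coh.structureModule C') 1).injective
      ((SerreDual.hhAffinePush_natural π φ' ψ rfl 1 x).trans hy)⟩
  · intro hb
    have hi := injective_of_chase hS' τ _ 0 ((hnat 1).2 hb).1
      ((hnat 0).2 ⟨frob_h0_injective φ' hφ', (frob_injective_iff (k := k) φ' hφ' 0).1 (frob_h0_injective φ' hφ')⟩).2 h3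
    exact ⟨hi, (frob_injective_iff (k := k) φ hφ 1).1 hi⟩

end Groth.Agent.NormSeq24
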