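import Groth.Agent.NormSeq24.NodeRing
import Groth.Prelude.Def_Curv2

/-!
# The `δ`-invariant computed on a birational normal extension
-/

set_option autoImplicit false

universe u v

namespace Groth.Agent.NormSeq24

variable {A : Type u} [CommRing A] {M : Type u} [AddCommGroup M] [Module A M] (f : A →ₗ[A] M)

/-- If `M` is a torsion-free birational extension of `A` realising the integral closure, `δ = length (M/A)`. -/
theorem deltaInv_eq_length (hf : Function.Injective f)
    (hex : ∀ s : M, ∃ β ∈ nonZeroDivisors A, ∃ a : A, β • s = f a)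
    (htf : ∀ β ∈ nonZeroDivisors A, ∀ s : M, β • s = 0 → s = 0)
    (hint : ∀ (s : M) (a : A) (β : nonZeroDivisors A), (β : A) • s = f a →
      IsIntegral A (IsLocalization.mk' (FractionRing A) a β))
    (hsurj : ∀ (a : A) (β : nonZeroDivisors A), IsIntegral A (IsLocalization.mk' (FractionRing A) a β) →
      ∃ s : M, (β : A) • s = f a) :
    Curv2.deltaInv A = Module.length A (M ⧸ LinearMap.range f) := by
  classical
  let K := FractionRing A
  choose β hβ a ha using hex
  let ψ₀ : M → K := fun s => IsLocalization.mk' K (a s) ⟨β s, hβ s⟩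
  have hval : ∀ (s : M) (b c : A), b • s = f c → algebraMap A K b * ψ₀ s = algebraMap A K c := by
    intro s b c h
    have e : b * a s = β s * c := hf (by
      rw [← smul_eq_mul, ← smul_eq_mul, map_smul, map_smul, ← ha, ← h, smul_comm])
    refine (IsLocalization.map_units K (⟨β s, hβ s⟩ : nonZeroDivisors A)).mul_left_cancel ?_
    rw [mul_left_comm, IsLocalization.mk'_spec', ← map_mul, ← map_mul, e]
  have hcan : ∀ (b : A), b ∈ nonZeroDivisors A → ∀ x y : K, algebraMap A K b * x = algebraMap A K b * y → x = y :=
    fun b hb x y h => (IsLocalization.map_units K (⟨b, hb⟩ : nonZeroDivisors A)).mul_left_cancel h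
  let ψ : M →ₗ[A] K :=
    { toFun := ψ₀
      map_add' := fun s t => hcan (β s * β t) (mul_mem (hβ s) (hβ t)) _ _ (by
        rw [hval (s + t) (β s * β t) (β t * a s + β s * a t) (by
          rw [smul_add, map_add, ← smul_eq_mul (β t), ← smul_eq_mul (β s) (a t), map_smul, map_smul, ← ha, ← ha,
            smul_smul, smul_smul, mul_comm (β s)]), map_add, map_mul, map_mul, map_mul]
        linear_combination (-algebraMap A K (β t)) * hval s (β s) (a s) (ha s) -
          algebraMap A K (β s) * hval t (β t) (a t) (ha t))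
      map_smul' := fun r s => hcan (β s) (hβ s) _ _ (by
        rw [hval (r • s) (β s) (r * a s) (by rw [smul_comm, ha, ← map_smul, smul_eq_mul]),
          RingHom.id_apply, Algebra.smul_def, mul_left_comm, hval s (β s) (a s) (ha s), map_mul]) }
  have hψf : ∀ c, ψ (f c) = algebraMap A K c := fun c => by
    have h := hval (f c) 1 c (one_smul _ _)
    rwa [map_one, one_mul] at h
  have hψinj : Function.Injective ψ := (injective_iff_map_eq_zero ψ).2 fun s hs => by
    have h : algebraMap A K (a s) = 0 := by rw [← hval s (β s) (a s) (ha s), show ψ₀ s = 0 from hs, mul_zero]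
    have ha0 : a s = 0 := IsFractionRing.injective A K (by rw [h, map_zero])
    exact htf (β s) (hβ s) s (by rw [ha, ha0, map_zero])
  have hmem : ∀ s, ψ s ∈ integralClosure A K := fun s => hint s (a s) ⟨β s, hβ s⟩ (ha s)
  let ψ' : M →ₗ[A] ↥(integralClosure A K) := ψ.codRestrict (Subalgebra.toSubmodule (integralClosure A K)) hmem
  have hb : Function.Bijective ψ' := by
    refine ⟨fun x y h => hψinj (congrArg Subtype.val h), fun t => ?_⟩
    obtain ⟨⟨c, b⟩, hcb⟩ := IsLocalization.surj (nonZeroDivisors A) (t : K)
    have ht : IsLocalization.mk' K c b = (t : K) := IsLocalization.mk'_eq_iff_eq_mul.2 hcb.symm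
    obtain ⟨s, hs⟩ := hsurj c b (by rw [ht]; exact t.2)
    refine ⟨s, Subtype.ext (hcan b b.2 _ _ ?_)⟩
    show algebraMap A K b * ψ₀ s = _
    rw [hval s b c hs, mul_comm, hcb]
  let e := LinearEquiv.ofBijective ψ' hb
  refine ((Submodule.Quotient.equiv (LinearMap.range f) _ e ?_).length_eq).symm
  refine Submodule.ext fun y => ⟨?_, ?_⟩
  · rintro ⟨_, ⟨c, rfl⟩, rfl⟩
    exact ⟨c, Subtype.ext (hψf c).symm⟩
  · rintro ⟨c, rfl⟩
    exact ⟨f c, ⟨c, rfl⟩, Subtype.ext (hψf c)⟩

/-- An element of the cross is a nonzerodivisor as soon as both branches are nonzero. -/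
theorem mem_nonZeroDivisors_of_toPair {K : Type u} [Field K] {A : Type u} [CommRing A] (e : A ≃+* Cross K) {b : A}
    (h1 : (toPair K (e b)).1 ≠ 0) (h2 : (toPair K (e b)).2 ≠ 0) : b ∈ nonZeroDivisors A := by
  refine mem_nonZeroDivisors_iff_left.2 fun z hz => e.injective (toPair_injective ?_)
  have h : toPair K (e b) * toPair K (e z) = 0 := by rw [← map_mul, ← map_mul, hz, map_zero, map_zero]
  rw [map_zero, map_zero]
  exact Prod.ext ((mul_eq_zero.1 (congrArg Prod.fst h)).resolve_left h1)
    ((mul_eq_zero.1 (congrArg Prod.snd h)).resolve_left h2)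

/-- The `δ`-invariant of `K[[x, y]]/(xy)` is one. -/
theorem deltaInv_cross {K : Type u} [Field K] {A : Type u} [CommRing A] (e : A ≃+* Cross K) :
    Curv2.deltaInv A = 1 := by
  let g : A →+* PowerSeries K × PowerSeries K := (toPair K).comp e.toRingHom
  letI := g.toAlgebra
  let f : A →ₗ[A] (PowerSeries K × PowerSeries K) := Algebra.linearMap A _
  have hg : ∀ c, algebraMap A (PowerSeries K × PowerSeries K) c = toPair K (e c) := fun c => rfl
  have hpt : ∀ v : PowerSeries K × PowerSeries K, PowerSeries.constantCoeff v.1 = PowerSeries.constantCoeff v.2 →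
      ∃ c, f c = v := fun v hv => by
    obtain ⟨z, hz⟩ := exists_toPair hv
    exact ⟨e.symm z, by rw [show f (e.symm z) = toPair K (e (e.symm z)) from rfl, e.apply_symm_apply, hz]⟩
  obtain ⟨d, hd⟩ := hpt (PowerSeries.X, PowerSeries.X) rfl
  have hdn : d ∈ nonZeroDivisors A := mem_nonZeroDivisors_of_toPair e
    (by rw [← hg, show algebraMap A _ d = f d from rfl, hd]; exact PowerSeries.X_ne_zero)
    (by rw [← hg, show algebraMap A _ d = f d from rfl, hd]; exact PowerSeries.X_ne_zero)
  have hsmul : ∀ (c : A) (v : PowerSeries K × PowerSeries K), c • v = f c * v := fun c v => rfl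
  have hfinj : Function.Injective f := fun x y h => e.injective (toPair_injective h)
  have hint : ∀ v : PowerSeries K × PowerSeries K, IsIntegral A v := by
    haveI : Nontrivial A := e.toEquiv.nontrivial_congr.2
      ⟨⟨0, 1, fun h => by simpa using congrArg (fun z => PowerSeries.constantCoeff (toPair K z).1) h⟩⟩
    have h10 : IsIntegral A ((1, 0) : PowerSeries K × PowerSeries K) :=
      ⟨Polynomial.X ^ 2 - Polynomial.X, Polynomial.monic_X_pow_sub (by rw [Polynomial.degree_X]; norm_num), by simp [pow_two]⟩
    intro v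
    obtain ⟨c, hc⟩ := hpt (v.1 - PowerSeries.C (PowerSeries.constantCoeff v.1),
      v.2 - PowerSeries.C (PowerSeries.constantCoeff v.2)) (by simp)
    obtain ⟨c₁, hc₁⟩ := hpt (PowerSeries.C (PowerSeries.constantCoeff v.1), PowerSeries.C (PowerSeries.constantCoeff v.1))
      (by simp)
    obtain ⟨c₂, hc₂⟩ := hpt (PowerSeries.C (PowerSeries.constantCoeff v.2), PowerSeries.C (PowerSeries.constantCoeff v.2))
      (by simp)
    have : v = f c + f c₁ * (1, 0) + f c₂ * (1 - (1, 0)) := by
      rw [hc, hc₁, hc₂]; ext <;> simp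
    rw [this]
    exact ((isIntegral_algebraMap).add (isIntegral_algebraMap.mul h10)).add
      (isIntegral_algebraMap.mul (isIntegral_one.sub h10))
  rw [deltaInv_eq_length f hfinj]
  · -- the quotient is the residue field
    have hm : ∀ v : PowerSeries K × PowerSeries K, v ∈ LinearMap.range f ↔
        PowerSeries.constantCoeff v.1 = PowerSeries.constantCoeff v.2 := fun v =>
      ⟨fun ⟨c, hc⟩ => hc ▸ constantCoeff_toPair (e c), fun h => hpt v h⟩
    rw [Module.length_eq_one_iff]
    refine isSimpleModule_iff_toSpanSingleton_surjective.2 ⟨?_, ?_⟩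
    · refine Submodule.Quotient.nontrivial_iff.2 fun htop => ?_
      have := (hm (1, 0)).1 (htop ▸ Submodule.mem_top)
      simp at this
    · intro w hw y
      obtain ⟨v, rfl⟩ := Submodule.Quotient.mk_surjective _ w
      obtain ⟨y, rfl⟩ := Submodule.Quotient.mk_surjective _ y
      rw [Ne, Submodule.Quotient.mk_eq_zero, hm, ← sub_eq_zero] at hw
      obtain ⟨c, hc⟩ := hpt (PowerSeries.C ((PowerSeries.constantCoeff y.1 - PowerSeries.constantCoeff y.2) /
        (PowerSeries.constantCoeff v.1 - PowerSeries.constantCoeff v.2)),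
        PowerSeries.C ((PowerSeries.constantCoeff y.1 - PowerSeries.constantCoeff y.2) /
        (PowerSeries.constantCoeff v.1 - PowerSeries.constantCoeff v.2))) (by simp)
      refine ⟨c, ?_⟩
      rw [LinearMap.toSpanSingleton_apply, ← Submodule.Quotient.mk_smul, Submodule.Quotient.eq, hm, hsmul, hc]
      simp only [Prod.fst_sub, Prod.snd_sub, Prod.fst_mul, Prod.snd_mul, map_sub, map_mul,
        PowerSeries.constantCoeff_C]
      linear_combination div_mul_cancel₀ (PowerSeries.constantCoeff y.1 - PowerSeries.constantCoeff y.2) hw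
  · intro v
    obtain ⟨c, hc⟩ := hpt (PowerSeries.X * v.1, PowerSeries.X * v.2) (by simp)
    exact ⟨d, hdn, c, by rw [hsmul, hd, hc]; rfl⟩
  · intro b hb v hv
    obtain ⟨h1, h2⟩ := toPair_ne_zero_of_mem (show e b ∈ nonZeroDivisors (Cross K) from
      mem_nonZeroDivisors_iff_left.2 fun z hz => by
        have := mem_nonZeroDivisors_iff_left.1 hb (e.symm z)
          (e.injective (by rw [map_mul, RingEquiv.apply_symm_apply, hz, map_zero]))
        exact e.symm.injective (this.trans (map_zero _).symm))
    rw [hsmul] at hv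
    exact Prod.ext ((mul_eq_zero.1 (congrArg Prod.fst hv)).resolve_left h1)
      ((mul_eq_zero.1 (congrArg Prod.snd hv)).resolve_left h2)
  · intro v a b hv
    obtain ⟨P, hP, hPv⟩ := hint v
    refine ⟨P, hP, ?_⟩
    have h0 : Polynomial.eval₂ (algebraMap A _) (algebraMap A (PowerSeries K × PowerSeries K) a)
        (P.scaleRoots (b : A)) = 0 := by
      rw [show algebraMap A (PowerSeries K × PowerSeries K) a = algebraMap A _ (b : A) * v from hv.symm.trans (hsmul _ _),
        Polynomial.scaleRoots_eval₂_mul, hPv, mul_zero]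
    rw [Polynomial.eval₂_at_apply] at h0
    have h0' : (P.scaleRoots (b : A)).eval a = 0 := hfinj (h0.trans (map_zero f).symm)
    have h1 := congrArg (algebraMap A (FractionRing A)) h0'
    rw [map_zero, ← Polynomial.eval₂_at_apply,
      ← IsLocalization.mk'_spec' (FractionRing A) a b, Polynomial.scaleRoots_eval₂_mul] at h1
    exact ((IsLocalization.map_units (FractionRing A) b).pow _).mul_right_eq_zero.1 h1
  · intro a b hab
    obtain ⟨P, hP, hPt⟩ := hab
    obtain ⟨h1, h2⟩ := toPair_ne_zero_of_mem (show e (b : A) ∈ nonZeroDivisors (Cross K) from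
      mem_nonZeroDivisors_iff_left.2 fun z hz => by
        have := mem_nonZeroDivisors_iff_left.1 b.2 (e.symm z)
          (e.injective (by rw [map_mul, RingEquiv.apply_symm_apply, hz, map_zero]))
        exact e.symm.injective (this.trans (map_zero _).symm))
    have h0 : Polynomial.eval₂ (algebraMap A (FractionRing A)) (algebraMap A _ a) (P.scaleRoots (b : A)) = 0 := by
      rw [← IsLocalization.mk'_spec' (FractionRing A) a b, Polynomial.scaleRoots_eval₂_mul, hPt, mul_zero]
    rw [Polynomial.eval₂_at_apply] at h0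
    have h0' : (P.scaleRoots (b : A)).eval a = 0 :=
      IsFractionRing.injective A (FractionRing A) (h0.trans (map_zero _).symm)
    have key : ∀ pr : PowerSeries K × PowerSeries K →+* PowerSeries K, pr (f b) ≠ 0 → pr (f b) ∣ pr (f a) := by
      intro pr hne
      let h : A →+* PowerSeries K := pr.comp g
      have e0 := congrArg h h0'
      rw [map_zero, ← Polynomial.eval₂_at_apply] at e0
      let t : FractionRing (PowerSeries K) :=
        algebraMap _ _ (h a) / algebraMap _ _ (h b)
      have hb0 : algebraMap (PowerSeries K) (FractionRing (PowerSeries K)) (h b) ≠ 0 :=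
        fun hh => hne ((map_eq_zero_iff _ (IsFractionRing.injective _ _)).1 hh)
      have ht : IsIntegral (PowerSeries K) t := by
        refine ⟨P.map h, hP.map h, ?_⟩
        rw [Polynomial.eval₂_map]
        have e1 := congrArg (algebraMap (PowerSeries K) (FractionRing (PowerSeries K))) e0
        rw [map_zero, Polynomial.hom_eval₂, show algebraMap (PowerSeries K) (FractionRing (PowerSeries K)) (h a) =
          ((algebraMap _ _).comp h) b * t from (mul_div_cancel₀ _ hb0).symm,
          Polynomial.scaleRoots_eval₂_mul] at e1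
        exact (mul_eq_zero.1 e1).resolve_left (pow_ne_zero _ hb0)
      obtain ⟨q, hq⟩ := IsIntegrallyClosed.isIntegral_iff.1 ht
      refine ⟨q, IsFractionRing.injective (PowerSeries K) (FractionRing (PowerSeries K)) ?_⟩
      show algebraMap _ _ (h a) = algebraMap _ _ (h b * q)
      rw [map_mul, hq, mul_div_cancel₀ _ hb0]
    obtain ⟨q1, hq1⟩ := key (RingHom.fst _ _) h1
    obtain ⟨q2, hq2⟩ := key (RingHom.snd _ _) h2
    exact ⟨(q1, q2), by rw [hsmul]; exact (Prod.ext hq1 hq2).symm⟩

end Groth.Agent.NormSeq24
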