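import Groth.Agent.NormSeq24.StalkLen
import Groth.Agent.Hyper24.BiratH1
import Groth.Agent.VarietyLib.MultFormula
import Groth.Agent.CurveRR24.Point
import Groth.Agent.EulerLib.SupportVanishing

/-!
# The Euler characteristic of a normalisation
-/

set_option autoImplicit false
set_option linter.style.haveILetI false
set_option backward.isDefEq.respectTransparency.types false
set_option maxHeartbeats 1000000

universe u

open CategoryTheory CategoryTheory.Limits AlgebraicGeometry Opposite TopologicalSpace
open Groth.Agent.Coherent Groth.Agent.EulerLib Groth.Agent.AssSch12 Groth.Agent.VarietyLib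

namespace Groth.Agent.NormSeq24

variable (k : Type u) [Field k] {X : Scheme.{u}} [X.Over (Spec (CommRingCat.of k))]
  [IsProper (X ↘ Spec (CommRingCat.of k))]

theorem euler_clM_of_isClosed {x : X} (hx : IsClosed ({x} : Set X)) :
    Curv2.euler k X (clM x) = (letI := Curv2.resAlgebra k X x; (Module.finrank k (X.residueField x) : ℤ)) := by
  haveI := EulerLib.isSeparated_of_proper (X := X) k
  haveI := EulerLib.isNoetherian_of_proper (X := X) k
  have hI : clI x = CurveRR24.ptIdeal x hx :=
    congrArg Scheme.IdealSheafData.vanishingIdeal (TopologicalSpace.Closeds.ext hx.closure_eq)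
  have e : clM x = ClSub.quotMod (CurveRR24.ptIdeal x hx) := congrArg (fun I => ClSub.quotMod I) hI
  have hd : topologicalKrullDim ↥({x} : Set X) ≤ 0 := topologicalKrullDim_zero_of_discreteTopology _
  rw [e, euler_eq_sum k X _ 0 fun q hq =>
      subsingleton_HH_of_support ⟨{x}, hx⟩ _ (CurveRR24.isCoh_quotMod _).1 (CurveRR24.support_ptQuot hx) q
        (hd.trans_lt (by exact_mod_cast hq)),
    Finset.sum_range_one, pow_zero, one_mul, CurveRR24.finrank_HH_zero_ptQuot hx k]

open Classical in
theorem euler_normalization [IsReduced X] (hdim : topologicalKrullDim X ≤ 1) {X' : Scheme.{u}}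
    [X'.Over (Spec (CommRingCat.of k))] (π : X' ⟶ X) [IsFinite π]
    (hπ : π ≫ (X ↘ Spec (CommRingCat.of k)) = X' ↘ Spec (CommRingCat.of k))
    (hN : Pi1.IsNormalScheme X') {U : X.Opens} (hU : Dense (U : Set X))
    (hU' : Dense ((π ⁻¹ᵁ U : X'.Opens) : Set X')) [IsIso (π ∣_ U)] [IsReduced X'] :
    Curv2.euler k X' (Coh.structureModule X') =
      Curv2.euler k X (Coh.structureModule X) +
        ∑ᶠ x : X, (if IsClosed ({x} : Set X) then
          ((letI := Curv2.resAlgebra k X x; (Module.finrank k (X.residueField x) : ℤ)) *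
            ((Curv2.deltaInv (X.presheaf.stalk x)).toNat : ℤ)) else 0) := by
  haveI := EulerLib.isNoetherian_of_proper (X := X) k
  haveI : IsLocallyNoetherian X' := LocallyOfFiniteType.isLocallyNoetherian π
  haveI : Coh.IsQCoh (Coh.structureModule X') := (isCoh_structureModule X').1
  let M := (Coh.push π).obj (Coh.structureModule X')
  let u : Coh.structureModule X ⟶ M := ClSub.unitToPush π
  haveI : Mono u := mono_of_sections_injective u fun V => app_injective π hU V
  let S : ShortComplex X.Modules := ShortComplex.mk u (cokernel.π u) (cokernel.condition u)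
  have hS : S.ShortExact :=
    { exact := ShortComplex.exact_of_g_is_cokernel _ (cokernelIsCokernel u) }
  have hM : Coh.IsCoh M := Hyper24.isCoh_push_structure k π
  haveI := hM.1
  haveI : Coh.IsQCoh (Coh.structureModule X) := (isCoh_structureModule X).1
  have hQ : Coh.IsCoh (cokernel u) := Hyper24.isCoh_of_epi' (cokernel.π u) inferInstance hM (isQCoh_cokernel u)
  have e1 : Curv2.euler k X' (Coh.structureModule X') = Curv2.euler k X M :=
    finsum_congr fun q => by
      rw [H0Growth23.finrank_HH_push k π hπ _ (acyclicOverBasis_affine π _) q]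
  have e2 : Curv2.euler k X M = Curv2.euler k X (Coh.structureModule X) + Curv2.euler k X (cokernel u) :=
    euler_additive k X S hS (isCoh_structureModule X) hM hQ
  obtain ⟨hZ, hc⟩ := Hyper24.finite_compl_dense k hdim hU
  haveI : IsClosedImmersion (π ∣_ U) := inferInstance
  have hsupp : CohB1.support (cokernel u) ⊆ (U : Set X)ᶜ := Hyper24.support_cokernel_unitToPush π inferInstance
  let s : Finset X := hZ.toFinset
  have hclosure : ∀ ξ : X, IsClosed ({ξ} : Set X) → topologicalKrullDim (closure ({ξ} : Set X)) = ((0 : ℕ) : WithBot ℕ∞) := by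
    intro ξ hξ
    rw [hξ.closure_eq]
    haveI : Nonempty (IrreducibleCloseds ↥({ξ} : Set X)) :=
      ⟨⟨{⟨ξ, rfl⟩}, isIrreducible_singleton, isClosed_discrete _⟩⟩
    exact le_antisymm (topologicalKrullDim_zero_of_discreteTopology _) Order.krullDim_nonneg
  have hd0 : topologicalKrullDim (CohB1.support (cokernel u)) ≤ ((0 : ℕ) : WithBot ℕ∞) := by
    haveI : Finite (CohB1.support (cokernel u)) := (hZ.subset hsupp).to_subtype
    haveI : T1Space (CohB1.support (cokernel u)) := ⟨fun z => by
      rw [show ({z} : Set (CohB1.support (cokernel u))) = Subtype.val ⁻¹' {z.1} from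
        Set.ext fun w => (Subtype.ext_iff).trans Iff.rfl]
      exact (hc z.1 (hsupp z.2)).preimage continuous_subtype_val⟩
    exact topologicalKrullDim_zero_of_discreteTopology _
  have e3 : Curv2.euler k X (cokernel u) = ∑ ξ ∈ s, mult (cokernel u) ξ • Curv2.euler k X (clM ξ) := by
    refine eq_sum_mult (ψ := fun M => Curv2.euler k X M) (d := 0) (fun e => euler_congr k X e)
      (fun S hS a b c => euler_additive k X S hS a b c) (fun M hM hlt => ?_) hQ hd0 s
      (fun ξ hξ _ => hZ.mem_toFinset.2 (hsupp hξ)) (fun ξ hξ => hclosure ξ (hc ξ (hZ.mem_toFinset.1 hξ)))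
    refine euler_of_isZero k X (isZero_of_support_eq_empty ?_)
    rw [Set.eq_empty_iff_forall_notMem]
    intro a ha
    have : Nonempty (IrreducibleCloseds (CohB1.support M)) :=
      ⟨⟨closure {⟨a, ha⟩}, isIrreducible_singleton.closure, isClosed_closure⟩⟩
    exact absurd (Order.krullDim_nonneg (α := IrreducibleCloseds (CohB1.support M)))
      (not_le.2 (by exact_mod_cast hlt))
  rw [e1, e2, e3]
  congr 1
  rw [finsum_eq_sum_of_support_subset _ (s := s) fun x hx => hZ.mem_toFinset.2 fun hxU => hx ?_]
  · refine Finset.sum_congr rfl fun ξ hξ => ?_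
    have hξc := hc ξ (hZ.mem_toFinset.1 hξ)
    rw [if_pos hξc, euler_clM_of_isClosed k hξc, mult, nsmul_eq_mul, length_stalk_cokernel π hU hU' hN ξ, mul_comm]
  · show ite _ _ _ = 0
    split_ifs
    · have h0 : Module.length (X.presheaf.stalk x) ((cokernel u).presheaf.stalk x) = 0 := by
        haveI : Subsingleton ((cokernel u).presheaf.stalk x) := not_not.1 fun h => hsupp h hxU
        exact Module.length_eq_zero
      rw [← length_stalk_cokernel π hU hU' hN x, h0]
      simp
    · rfl

end Groth.Agent.NormSeq24
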