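import Groth.Agent.CurveRR24.Sky
import Groth.Agent.CurveRR24.Vanish
import Groth.Agent.CycRoot27.Connected
import Mathlib.Topology.Connected.CardComponents
import Mathlib.RingTheory.Artinian.Module

/-!
# `h⁰(O)` counts connected components over an algebraically closed field
-/

set_option autoImplicit false
set_option linter.style.haveILetI false
set_option backward.isDefEq.respectTransparency.types false

universe u

open CategoryTheory AlgebraicGeometry TopologicalSpace Opposite
open Groth.Agent.Coherent Groth.Agent.EulerLib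

namespace Groth.Agent.NormSeq24

theorem finite_connectedComponents (T : Type u) [TopologicalSpace T] [NoetherianSpace T] :
    Finite (_root_.ConnectedComponents T) := by
  haveI := (NoetherianSpace.finite_irreducibleComponents (α := T)).to_subtype
  refine Finite.of_surjective
    (fun Z : irreducibleComponents T => _root_.ConnectedComponents.mk (Z.2.1.nonempty.some)) fun c => ?_
  obtain ⟨x, rfl⟩ := _root_.ConnectedComponents.surjective_coe c
  refine ⟨⟨irreducibleComponent x, irreducibleComponent_mem_irreducibleComponents x⟩,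
    _root_.ConnectedComponents.coe_eq_coe'.2 ?_⟩
  exact isIrreducible_irreducibleComponent.isConnected.isPreconnected.subset_connectedComponent
    mem_irreducibleComponent (Set.Nonempty.some_mem _)

theorem card_clopens (T : Type u) [TopologicalSpace T] [NoetherianSpace T] :
    Nat.card {S : Set T // IsClopen S} = 2 ^ Nat.card (_root_.ConnectedComponents T) := by
  haveI := finite_connectedComponents T
  haveI : DiscreteTopology (_root_.ConnectedComponents T) := inferInstance
  let m : T → _root_.ConnectedComponents T := _root_.ConnectedComponents.mk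
  let e : Set (_root_.ConnectedComponents T) → {S : Set T // IsClopen S} := fun A =>
    ⟨m ⁻¹' A, (isClopen_discrete A).preimage _root_.ConnectedComponents.continuous_coe⟩
  have he : Function.Bijective e := by
    refine ⟨fun A B h => Set.preimage_injective.2 _root_.ConnectedComponents.surjective_coe (congrArg Subtype.val h),
      fun S => ⟨m '' S.1, Subtype.ext ?_⟩⟩
    refine Set.Subset.antisymm ?_ (Set.subset_preimage_image _ _)
    rintro x ⟨y, hy, hxy⟩
    exact S.2.connectedComponent_subset hy (_root_.ConnectedComponents.coe_eq_coe'.1 hxy.symm)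
  rw [← Nat.card_congr (Equiv.ofBijective e he)]
  haveI := Fintype.ofFinite (_root_.ConnectedComponents T)
  simp [Nat.card_eq_fintype_card, Fintype.card_set]

/-- Idempotents are clopen sets. -/
theorem card_idempotents (X : Scheme.{u}) :
    Nat.card {e : Γ(X, ⊤) // e * e = e} = Nat.card {S : Set X // IsClopen S} := by
  have hg : ∀ (e : Γ(X, ⊤)), e * e = e → ∀ x : X, X.presheaf.germ ⊤ x (Opens.mem_top x) e = 0 ∨ X.presheaf.germ ⊤ x (Opens.mem_top x) e = 1 := by
    intro e he x
    have h : IsIdempotentElem (X.presheaf.germ ⊤ x (Opens.mem_top x) e) := by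
      show _ * _ = _
      rw [← map_mul, he]
    rcases IsLocalRing.isUnit_or_isUnit_one_sub_self (X.presheaf.germ ⊤ x (Opens.mem_top x) e) with hu | hu
    · exact Or.inr ((hu.mul_left_cancel (h.eq.trans (mul_one _).symm)))
    · exact Or.inl (hu.mul_left_eq_zero.1 (by rw [mul_sub, mul_one, h.eq, sub_self]))
  have hcl : ∀ (e : Γ(X, ⊤)), e * e = e → IsClopen (X.basicOpen e : Set X) := by
    intro e he
    refine ⟨⟨?_⟩, (X.basicOpen e).2⟩
    have : (X.basicOpen e : Set X)ᶜ = (X.basicOpen (1 - e) : Set X) := by
      ext x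
      rw [Set.mem_compl_iff, SetLike.mem_coe, SetLike.mem_coe, Scheme.mem_basicOpen _ _ _ (Opens.mem_top x),
        Scheme.mem_basicOpen _ _ _ (Opens.mem_top x), map_sub, map_one]
      rcases hg e he x with h | h <;> simp [h]
    rw [this]
    exact (X.basicOpen (1 - e)).2
  refine Nat.card_congr (Equiv.ofBijective (fun e => ⟨(X.basicOpen e.1 : Set X), hcl e.1 e.2⟩) ⟨?_, ?_⟩)
  · rintro ⟨a, ha⟩ ⟨b, hb⟩ h
    refine Subtype.ext (TopCat.Presheaf.section_ext X.sheaf ⊤ a b fun x _ => ?_)
    have hiff : IsUnit (X.presheaf.germ ⊤ x (Opens.mem_top x) a) ↔ IsUnit (X.presheaf.germ ⊤ x (Opens.mem_top x) b) := by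
      rw [← Scheme.mem_basicOpen, ← Scheme.mem_basicOpen]
      exact Set.ext_iff.1 (congrArg Subtype.val h) x
    show X.presheaf.germ ⊤ x (Opens.mem_top x) a = X.presheaf.germ ⊤ x (Opens.mem_top x) b
    rcases hg a ha x with h1 | h1 <;> rcases hg b hb x with h2 | h2 <;> rw [h1, h2] at hiff ⊢
    · simp at hiff
    · simp at hiff
  · rintro ⟨S, hS⟩
    obtain ⟨r, hr, hrA⟩ := CycRoot27.exists_idempotent (T := X) (A := ⟨S, hS.isOpen⟩) (B := ⟨Sᶜ, hS.compl.isOpen⟩)
      (SetLike.coe_injective (Set.inter_compl_self S)) (SetLike.coe_injective (Set.union_compl_self S))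
    exact ⟨⟨r, hr⟩, Subtype.ext (congrArg (fun O : X.Opens => (O : Set X)) hrA)⟩

/-- Idempotents of a reduced finite algebra over an algebraically closed field. -/
theorem card_idempotents_finite (k R : Type u) [Field k] [IsAlgClosed k] [CommRing R] [Algebra k R] [Module.Finite k R]
    [IsReduced R] : Nat.card {e : R // e * e = e} = 2 ^ Module.finrank k R := by
  classical
  haveI : IsArtinianRing R := IsArtinianRing.of_finite k R
  haveI := Fintype.ofFinite (MaximalSpectrum R)
  have hfr : ∀ I : MaximalSpectrum R, Module.finrank k (R ⧸ I.asIdeal) = 1 := fun I => by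
    haveI := I.isMaximal
    letI := Ideal.Quotient.field I.asIdeal
    haveI : Algebra.IsIntegral k (R ⧸ I.asIdeal) := Algebra.IsIntegral.of_finite k _
    exact (LinearEquiv.ofBijective (Algebra.linearMap k (R ⧸ I.asIdeal))
      IsAlgClosed.algebraMap_bijective_of_isIntegral).finrank_eq.symm.trans (Module.finrank_self k)
  let e := IsArtinianRing.equivPi R
  let eL : R ≃ₗ[k] ∀ I : MaximalSpectrum R, R ⧸ I.asIdeal :=
    { e.toAddEquiv with map_smul' := fun c r => funext fun I => rfl }
  have hn : Module.finrank k R = Fintype.card (MaximalSpectrum R) := by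
    rw [eL.finrank_eq, Module.finrank_pi_fintype]
    simp [hfr]
  rw [hn]
  let i1 : {r : R // r * r = r} ≃ {f : ∀ I : MaximalSpectrum R, R ⧸ I.asIdeal // ∀ I, f I * f I = f I} :=
    e.toEquiv.subtypeEquiv fun r => ⟨fun h I => by
      show e r I * e r I = e r I
      rw [← Pi.mul_apply, ← map_mul, h], fun h => e.injective (by rw [map_mul]; exact funext h)⟩
  rw [Nat.card_congr (i1.trans (Equiv.subtypePiEquivPi (p := fun (I : MaximalSpectrum R) (x : R ⧸ I.asIdeal) => x * x = x))),
    Nat.card_pi]
  have h2 : ∀ I : MaximalSpectrum R, Nat.card {x : R ⧸ I.asIdeal // x * x = x} = 2 := fun I => by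
    haveI := I.isMaximal
    letI := Ideal.Quotient.field I.asIdeal
    rw [Nat.card_eq_two_iff]
    refine ⟨⟨0, mul_zero 0⟩, ⟨1, mul_one 1⟩, fun h => zero_ne_one (congrArg Subtype.val h), ?_⟩
    refine Set.eq_univ_of_forall fun ⟨x, hx⟩ => ?_
    rcases (IsIdempotentElem.iff_eq_zero_or_one.1 hx) with rfl | rfl
    · exact Or.inl rfl
    · exact Or.inr rfl
  simp [h2]

theorem finrank_h0_eq_card_components (k : Type u) [Field k] [IsAlgClosed k] (X : Scheme.{u})
    [X.Over (Spec (CommRingCat.of k))] [IsProper (X ↘ Spec (CommRingCat.of k))] [IsReduced X] :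
    Module.finrank k (Coh.HH X (Coh.structureModule X) 0) = Nat.card (_root_.ConnectedComponents X) := by
  haveI := EulerLib.isNoetherian_of_proper (X := X) k
  letI : Algebra k Γ(X, ⊤) := (baseHom k X).toAlgebra
  let e : GA (baseHom k X) (Coh.structureModule X) ≃ₗ[k] Γ(X, ⊤) :=
    { toFun := fun s => (show Γ(X, ⊤) from s)
      invFun := fun s => (show Γ(X, ⊤) from s)
      map_add' := fun _ _ => rfl
      map_smul' := fun _ _ => rfl
      left_inv := fun _ => rfl
      right_inv := fun _ => rfl }
  let e' := (CurveRR24.hhZero k (Coh.structureModule X)).trans e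
  haveI := CurveRR24.finite_HH_of_isCoh k (isCoh_structureModule X) 0
  haveI : Module.Finite k Γ(X, ⊤) := Module.Finite.equiv e'
  refine Nat.pow_right_injective (le_refl 2) ?_
  show 2 ^ _ = 2 ^ _
  rw [e'.finrank_eq, ← card_idempotents_finite k Γ(X, ⊤), card_idempotents, card_clopens]

end Groth.Agent.NormSeq24
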