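import Groth.Agent.NormSeq24.EulerNorm
import Groth.Agent.NormSeq24.FrobH1
import Groth.Agent.NormSeq24.H0Count
import Groth.Agent.NodeLib7.NodalStalks
import Groth.Agent.NodeLib7.ClosedSub
import Groth.Agent.EGA43.DeltaInvariance
import Groth.Agent.EGA43.DeltaBaseChange.Scheme
import Groth.Agent.EGA4Dim6.GenericFibre

/-!
# Genus of a nodal curve and of its normalisation
-/

set_option autoImplicit false
set_option linter.style.haveILetI false
set_option backward.isDefEq.respectTransparency.types false
set_option maxHeartbeats 1000000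

universe u

open CategoryTheory CategoryTheory.Limits AlgebraicGeometry IsLocalRing
open Groth.Agent.Coherent Groth.Agent.EulerLib

attribute [local instance] Curv2.stalkAlgebra Curv2.resAlgebra

namespace Groth.Agent.NormSeq24

variable (k : Type u) [Field k] [IsAlgClosed k] (C : Scheme.{u}) [C.Over (Spec (CommRingCat.of k))]
  [IsProper (C ↘ Spec (CommRingCat.of k))]

theorem deltaInv_eq_zero_of_ic (A : Type u) [CommRing A] [IsDomain A] [IsIntegrallyClosed A] :
    Curv2.deltaInv A = 0 := by
  have : Subsingleton (↥(integralClosure A (FractionRing A)) ⧸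
      LinearMap.range (Algebra.linearMap A ↥(integralClosure A (FractionRing A)))) := by
    refine Submodule.Quotient.subsingleton_iff.2 (Submodule.eq_top_iff'.2 fun y => ?_)
    obtain ⟨a, ha⟩ := IsIntegrallyClosed.isIntegral_iff.1 y.2
    exact ⟨a, Subtype.ext ha⟩
  exact Module.length_eq_zero

theorem deltaInv_of_smooth (x : C) {V : C.Opens} (hxV : x ∈ V)
    (hsm : Smooth (V.ι ≫ (C ↘ Spec (CommRingCat.of k)))) : Curv2.deltaInv (C.presheaf.stalk x) = 0 := by
  haveI := VarietyLib.isRegularLocalRing_stalk_of_smooth k _ (V.ι ≫ (C ↘ Spec (CommRingCat.of k))) ⟨x, hxV⟩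
  haveI : IsRegularLocalRing (C.presheaf.stalk x) :=
    IsRegularLocalRing.of_ringEquiv (V.stalkIso ⟨x, hxV⟩).commRingCatIsoToRingEquiv
  haveI := CAlgH3.isDomain_of_isRegularLocalRing (C.presheaf.stalk x)
  haveI := CAlgH3.isIntegrallyClosed_of_regular (C.presheaf.stalk x)
  exact deltaInv_eq_zero_of_ic _

theorem deltaInv_of_isNode (hdim : ∀ Z ∈ irreducibleComponents (C : Type u), topologicalKrullDim Z = 1) {x : C}
    (h : Curv2.IsNode k C x) : Curv2.deltaInv (C.presheaf.stalk x) = 1 := by
  obtain ⟨hx, -, u, v, a, b, c, hd⟩ := (NodeLib7.isNode_iff k C x).1 h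
  haveI := NodeLib7.isNoetherianRing_stalk k C x
  haveI := (NodeLib7.isClosed_iff_finite k C x).1 hx
  haveI : _root_.IsReduced (C.presheaf.stalk x) := NodeLib7.isReduced_of_isNode k C h
  have hd1 : ringKrullDim (C.presheaf.stalk x) = 1 := by
    refine le_antisymm ((EGA4Dim6.stalk_dim_le_dim x).trans (dim_le_one hdim)) ?_
    by_contra hlt
    rw [not_le] at hlt
    haveI : Ring.KrullDimLE 0 (C.presheaf.stalk x) :=
      Ring.krullDimLE_iff.2 (ENat.WithBot.lt_add_one_iff.1 (by simpa using hlt))
    haveI : IsArtinianRing (C.presheaf.stalk x) := isArtinianRing_iff_krullDimLE_zero.2 inferInstance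
    exact NodeLib7.not_isField_stalk hdim hx (IsArtinianRing.isField_of_isReduced_of_isLocalRing _)
  obtain ⟨e, -⟩ := NodeLib7.exists_split_equiv (algebraMap k (C.presheaf.stalk x))
    (IsAlgClosed.algebraMap_bijective_of_isIntegral (k := k) (K := ResidueField (C.presheaf.stalk x))) hd
  rw [← (EGA43.DeltaInvariance.deltaInv_all _ (EGA43.DeltaBaseChange.isNagata_stalk k C x) hd1).2.2]
  exact deltaInv_cross e

omit [IsAlgClosed k] in
theorem euler_eq_h0_sub_genus (hdim : topologicalKrullDim C ≤ 1) :
    Curv2.euler k C (Coh.structureModule C) =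
      (Module.finrank k (Coh.HH C (Coh.structureModule C) 0) : ℤ) - Curv2.genus k C := by
  haveI := CurveRR24.isLocallyNoetherian_of_proper k (X := C)
  rw [euler_eq_sum k C _ 1 fun q hq =>
      CurveRR24.subsingleton_HH_ge_two k hdim _ (isCoh_structureModule C).1 hq,
    Finset.sum_range_succ, Finset.sum_range_one, pow_zero, pow_one]
  rw [Curv2.genus]
  ring

theorem genus_add_components (hdim : ∀ Z ∈ irreducibleComponents (C : Type u), topologicalKrullDim Z = 1)
    (hC : Curv2.AtWorstNodal k C) (C' : Scheme.{u}) (π : C' ⟶ C) [IsFinite π] (hC' : Pi1.IsNormalScheme C')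
    (U : C.Opens) (hU : Dense (U : Set C)) (hU' : Dense ((π ⁻¹ᵁ U : C'.Opens) : Set C')) (hπU : IsIso (π ∣_ U)) :
    letI : C'.Over (Spec (CommRingCat.of k)) := ⟨π ≫ (C ↘ (Spec (CommRingCat.of k)))⟩
    (Curv2.genus k C : ℤ) + Nat.card (_root_.ConnectedComponents C') =
      (Curv2.genus k C' : ℤ) + Nat.card {x : C // Curv2.IsNode k C x} + Nat.card (_root_.ConnectedComponents C) := by
  classical
  letI : C'.Over (Spec (CommRingCat.of k)) := ⟨π ≫ (C ↘ Spec (CommRingCat.of k))⟩
  haveI : IsProper (C' ↘ Spec (CommRingCat.of k)) :=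
    inferInstanceAs (IsProper (π ≫ (C ↘ Spec (CommRingCat.of k))))
  haveI := isReduced_of_isNormalScheme hC'
  haveI : ∀ z : C, _root_.IsReduced (C.presheaf.stalk z) := NodeLib7.isReduced_stalk_of_atWorstNodal k C hC
  haveI : AlgebraicGeometry.IsReduced C := isReduced_of_isReduced_stalk C
  haveI := hπU
  haveI := CurveRR24.isLocallyNoetherian_of_proper k (X := C)
  have hd1 := dim_le_one hdim
  have hd1' := Hyper24.dim_le_of_isIso_restrict k hd1 π hU' hπU
  have main := euler_normalization k hd1 π rfl hC' hU hU'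
  rw [euler_eq_h0_sub_genus k C' hd1', euler_eq_h0_sub_genus k C hd1, finrank_h0_eq_card_components,
    finrank_h0_eq_card_components] at main
  have hfin : ∀ x : C, IsClosed ({x} : Set C) → Module.finrank k (C.residueField x) = 1 := fun x hx => by
    haveI : Module.Finite k (C.residueField x) := (NodeLib7.isClosed_iff_finite k C x).1 hx
    haveI : Algebra.IsIntegral k (C.residueField x) := Algebra.IsIntegral.of_finite k _
    exact (LinearEquiv.ofBijective (Algebra.linearMap k (C.residueField x))
      IsAlgClosed.algebraMap_bijective_of_isIntegral).finrank_eq.symm.trans (Module.finrank_self k)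
  let N : Set C := {x | Curv2.IsNode k C x}
  have hNU : N ⊆ (U : Set C)ᶜ := by
    intro x hx hxU
    have h1 := deltaInv_of_isNode k C hdim hx
    haveI : IsClosedImmersion (π ∣_ U) := inferInstance
    haveI : Subsingleton ((cokernel (ClSub.unitToPush π)).presheaf.stalk x) :=
      not_not.1 fun h => Hyper24.support_cokernel_unitToPush π inferInstance h hxU
    rw [← length_stalk_cokernel π hU hU' hC' x, Module.length_eq_zero] at h1
    exact zero_ne_one h1
  have hNfin : N.Finite := (Hyper24.finite_compl_dense k hd1 hU).1.subset hNU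
  have hval : ∀ x : C, (if IsClosed ({x} : Set C) then
      ((Module.finrank k (C.residueField x) : ℤ) * ((Curv2.deltaInv (C.presheaf.stalk x)).toNat : ℤ)) else 0) =
      if x ∈ hNfin.toFinset then 1 else 0 := by
    intro x
    by_cases hn : Curv2.IsNode k C x
    · rw [if_pos hn.1, if_pos (hNfin.mem_toFinset.2 hn), hfin x hn.1, deltaInv_of_isNode k C hdim hn]
      simp
    · rw [if_neg (fun h => hn (hNfin.mem_toFinset.1 h))]
      split_ifs with hx
      · rcases hC x hx with ⟨V, hxV, hsm⟩ | h
        · rw [deltaInv_of_smooth k C x hxV hsm]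
          simp
        · exact absurd h hn
      · rfl
  rw [finsum_congr hval, finsum_eq_sum_of_support_subset _ (s := hNfin.toFinset) (fun x hx => by
    by_contra h
    exact hx (if_neg h)), Finset.sum_ite_mem, Finset.inter_self, Finset.sum_const, nsmul_eq_mul, mul_one,
    ← Nat.card_eq_card_finite_toFinset hNfin] at main
  change _ = _ + (Nat.card {x : C // Curv2.IsNode k C x} : ℤ) at main
  linarith

end Groth.Agent.NormSeq24
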