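import Mathlib

/-!
# `K[[x, y]]/(xy)` inside `K[[x]] × K[[y]]`
-/

set_option autoImplicit false

universe u

open MvPowerSeries

namespace Groth.Agent.NormSeq24

variable (K : Type u) [Field K]

/-- `K[[x, y]]/(xy)`. -/
abbrev Cross : Type u :=
  MvPowerSeries (Fin 2) K ⧸ Ideal.span {(MvPowerSeries.X 0 * MvPowerSeries.X 1 : MvPowerSeries (Fin 2) K)}

/-- The exponent of `x^a y^b`. -/
noncomputable def expo (a b : ℕ) : Fin 2 →₀ ℕ := Finsupp.single 0 a + Finsupp.single 1 b

theorem expo_eta (d : Fin 2 →₀ ℕ) : expo (d 0) (d 1) = d := by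
  ext i; fin_cases i <;> simp [expo]

/-- Restriction to an axis. -/
noncomputable def axis (i : Fin 2) : MvPowerSeries (Fin 2) K →+* PowerSeries K :=
  (MvPowerSeries.killCompl (R := K) (Function.Embedding.punit i)).toRingHom

variable {K}

theorem coeff_axis (i : Fin 2) (F : MvPowerSeries (Fin 2) K) (n : ℕ) :
    PowerSeries.coeff n (axis K i F) = MvPowerSeries.coeff (Finsupp.single i n) F := by
  show MvPowerSeries.coeff (Finsupp.single () n) (MvPowerSeries.killCompl (Function.Embedding.punit i) F) = _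
  rw [MvPowerSeries.coeff_killCompl, Finsupp.embDomain_single]
  rfl

theorem axis_X_self (i : Fin 2) : axis K i (MvPowerSeries.X i) = PowerSeries.X := by
  refine PowerSeries.ext fun n => ?_
  rw [coeff_axis, PowerSeries.coeff_X, MvPowerSeries.coeff_X]
  simp [Finsupp.single_left_inj, Finsupp.single_injective i |>.eq_iff]

theorem axis_X_of_ne {i j : Fin 2} (h : i ≠ j) : axis K i (MvPowerSeries.X j) = 0 := by
  refine PowerSeries.ext fun n => ?_
  rw [coeff_axis, MvPowerSeries.coeff_X, map_zero, if_neg fun e => ?_]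
  have := DFunLike.congr_fun e j
  simp [Finsupp.single_apply, h] at this

theorem dvd_of_axis_eq_zero {F : MvPowerSeries (Fin 2) K} (h0 : axis K 0 F = 0) (h1 : axis K 1 F = 0) :
    MvPowerSeries.X 0 * MvPowerSeries.X 1 ∣ F := by
  refine ⟨fun d => MvPowerSeries.coeff (d + expo 1 1) F, MvPowerSeries.ext fun d => ?_⟩
  have hm : (MvPowerSeries.X 0 * MvPowerSeries.X 1 : MvPowerSeries (Fin 2) K) =
      MvPowerSeries.monomial (expo 1 1) 1 := by
    rw [MvPowerSeries.X, MvPowerSeries.X, MvPowerSeries.monomial_mul_monomial, mul_one]; rfl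
  rw [hm, MvPowerSeries.coeff_monomial_mul]
  split_ifs with hle
  · rw [one_mul]
    show _ = MvPowerSeries.coeff (d - expo 1 1 + expo 1 1) F
    rw [tsub_add_cancel_of_le hle]
  · have : d 0 = 0 ∨ d 1 = 0 := by
      by_contra hc
      push Not at hc
      refine hle fun i => ?_
      fin_cases i <;> simp [expo] <;> omega
    rcases this with hd | hd
    · have he : d = Finsupp.single 1 (d 1) := by
        ext i; fin_cases i <;> simp [hd]
      rw [he, ← coeff_axis, h1, map_zero]
    · have he : d = Finsupp.single 0 (d 0) := by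
        ext i; fin_cases i <;> simp [hd]
      rw [he, ← coeff_axis, h0, map_zero]

variable (K)

/-- The two branches of the cross. -/
noncomputable def toPair : Cross K →+* PowerSeries K × PowerSeries K :=
  Ideal.Quotient.lift _ ((axis K 0).prod (axis K 1)) fun F hF => by
    obtain ⟨g, rfl⟩ := Ideal.mem_span_singleton.1 hF
    simp [axis_X_of_ne (K := K) (show (0 : Fin 2) ≠ 1 by decide), axis_X_of_ne (K := K) (show (1 : Fin 2) ≠ 0 by decide)]

variable {K}

theorem toPair_mk (F : MvPowerSeries (Fin 2) K) :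
    toPair K (Ideal.Quotient.mk _ F) = (axis K 0 F, axis K 1 F) := rfl

theorem toPair_injective : Function.Injective (toPair K) := by
  refine (injective_iff_map_eq_zero _).2 fun z hz => ?_
  obtain ⟨F, rfl⟩ := Ideal.Quotient.mk_surjective z
  rw [toPair_mk, Prod.mk_eq_zero] at hz
  exact Ideal.Quotient.eq_zero_iff_mem.2 (Ideal.mem_span_singleton.2 (dvd_of_axis_eq_zero hz.1 hz.2))

theorem constantCoeff_toPair (z : Cross K) :
    PowerSeries.constantCoeff (toPair K z).1 = PowerSeries.constantCoeff (toPair K z).2 := by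
  obtain ⟨F, rfl⟩ := Ideal.Quotient.mk_surjective z
  rw [toPair_mk, ← PowerSeries.coeff_zero_eq_constantCoeff_apply, ← PowerSeries.coeff_zero_eq_constantCoeff_apply,
    coeff_axis, coeff_axis, Finsupp.single_zero, Finsupp.single_zero]

theorem exists_toPair {f h : PowerSeries K} (e : PowerSeries.constantCoeff f = PowerSeries.constantCoeff h) :
    ∃ z, toPair K z = (f, h) := by
  classical
  refine ⟨Ideal.Quotient.mk _ (fun d => if d 1 = 0 then PowerSeries.coeff (d 0) f
    else if d 0 = 0 then PowerSeries.coeff (d 1) h else 0), ?_⟩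
  rw [toPair_mk]
  refine Prod.ext (PowerSeries.ext fun n => ?_) (PowerSeries.ext fun n => ?_)
  · rw [coeff_axis]
    exact (if_pos (by simp)).trans (by simp)
  · rw [coeff_axis]
    show (if Finsupp.single (1 : Fin 2) n 1 = 0 then _ else _) = _
    rcases n with - | n
    · simpa [PowerSeries.coeff_zero_eq_constantCoeff_apply] using e
    · rw [if_neg (by simp), if_pos (by simp)]
      simp

theorem toPair_ne_zero_of_mem {b : Cross K} (hb : b ∈ nonZeroDivisors (Cross K)) :
    (toPair K b).1 ≠ 0 ∧ (toPair K b).2 ≠ 0 := by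
  have key : ∀ i : Fin 2, ∀ v : PowerSeries K × PowerSeries K,
      toPair K (Ideal.Quotient.mk _ (MvPowerSeries.X i)) = v → v ≠ 0 → toPair K b * v ≠ 0 := fun i v hv hv0 h => by
    rw [← hv, ← map_mul, map_eq_zero_iff _ toPair_injective] at h
    exact hv0 (hv.symm.trans (by rw [(mem_nonZeroDivisors_iff.1 hb).1 _ h, map_zero]))
  refine ⟨fun h => key 0 (PowerSeries.X, 0) ?_ ?_ ?_, fun h => key 1 (0, PowerSeries.X) ?_ ?_ ?_⟩
  · rw [toPair_mk, axis_X_self, axis_X_of_ne (by decide)]
  · simp [PowerSeries.X_ne_zero]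
  · rw [← Prod.mk.eta (p := toPair K b), h, Prod.mk_mul_mk, zero_mul, mul_zero]; rfl
  · rw [toPair_mk, axis_X_self, axis_X_of_ne (by decide)]
  · simp [PowerSeries.X_ne_zero]
  · rw [← Prod.mk.eta (p := toPair K b), h, Prod.mk_mul_mk, zero_mul, mul_zero]; rfl

/-- In characteristic `p` the cross is closed under `p`-th roots inside its fraction ring. -/
theorem cross_dvd_of_pow_dvd {p : ℕ} [Fact p.Prime] [CharP K p] {a b : Cross K}
    (hb : b ∈ nonZeroDivisors (Cross K)) (h : b ^ p ∣ a ^ p) : b ∣ a := by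
  have hp : p ≠ 0 := (Fact.out : p.Prime).ne_zero
  obtain ⟨c, hc⟩ := h
  obtain ⟨hb1, hb2⟩ := toPair_ne_zero_of_mem hb
  have hc' := congrArg (toPair K) hc
  rw [map_pow, map_mul, map_pow] at hc'
  have h1 : (toPair K a).1 ^ p = (toPair K b).1 ^ p * (toPair K c).1 := congrArg Prod.fst hc'
  have h2 : (toPair K a).2 ^ p = (toPair K b).2 ^ p * (toPair K c).2 := congrArg Prod.snd hc'
  obtain ⟨t1, ht1⟩ := (IsIntegrallyClosed.pow_dvd_pow_iff hp).1 ⟨_, h1⟩
  obtain ⟨t2, ht2⟩ := (IsIntegrallyClosed.pow_dvd_pow_iff hp).1 ⟨_, h2⟩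
  rw [ht1, mul_pow] at h1
  rw [ht2, mul_pow] at h2
  have e1 := congrArg PowerSeries.constantCoeff (mul_left_cancel₀ (pow_ne_zero p hb1) h1)
  have e2 := congrArg PowerSeries.constantCoeff (mul_left_cancel₀ (pow_ne_zero p hb2) h2)
  rw [constantCoeff_toPair c, ← e2, map_pow, map_pow] at e1
  obtain ⟨t, ht⟩ := exists_toPair (frobenius_inj K p e1)
  refine ⟨t, toPair_injective ?_⟩
  rw [map_mul, ht]
  exact Prod.ext ht1 ht2

end Groth.Agent.NormSeq24
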