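import Groth.Agent.NormSeq24.NodeRing
import Groth.Agent.BlowUpLib.FiniteBirational

/-!
# `p`-th roots on a birational extension
-/

set_option autoImplicit false
set_option backward.isDefEq.respectTransparency.types false

universe u

open CategoryTheory CategoryTheory.Limits AlgebraicGeometry TopologicalSpace IsLocalRing

namespace Groth.Agent.NormSeq24

theorem dvd_of_pow_dvd_of_completion {A : Type u} [CommRing A] [IsLocalRing A] [IsNoetherianRing A]
    {K : Type u} [Field K] {p : ℕ} [Fact p.Prime] [CharP K p]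
    (e : AdicCompletion (maximalIdeal A) A ≃+* Cross K) {a b : A} (hb : b ∈ nonZeroDivisors A)
    (h : b ^ p ∣ a ^ p) : b ∣ a := by
  haveI : IsLocalRing (AdicCompletion (maximalIdeal A) A) := inferInstance
  haveI : Module.FaithfullyFlat A (AdicCompletion (maximalIdeal A) A) :=
    Module.FaithfullyFlat.of_flat_of_isLocalHom
  let f : A →+* AdicCompletion (maximalIdeal A) A := algebraMap A _
  have hfb : f b ∈ nonZeroDivisors (AdicCompletion (maximalIdeal A) A) := by
    rw [mem_nonZeroDivisors_iff_left]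
    intro z hz
    have hinj : Function.Injective (LinearMap.lsmul A A b) := fun x y hxy =>
      (mem_nonZeroDivisors_iff_left.1 hb (x - y) (by rw [mul_sub]; exact sub_eq_zero.2 hxy)) |> sub_eq_zero.1
    have h2 := Module.Flat.lTensor_preserves_injective_linearMap
      (M := AdicCompletion (maximalIdeal A) A) _ hinj
    have hi : ∀ w : AdicCompletion (maximalIdeal A) A,
        (TensorProduct.rid A _) ((LinearMap.lsmul A A b).lTensor _ ((TensorProduct.rid A _).symm w)) = b • w := by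
      intro w
      simp
    refine (TensorProduct.rid A _).symm.injective (h2 ?_) |>.trans (by rfl)
    apply (TensorProduct.rid A _).injective
    rw [hi, hi, smul_zero, Algebra.smul_def]
    exact hz
  have hK : e (f b) ∣ e (f a) := cross_dvd_of_pow_dvd (p := p)
    (mem_nonZeroDivisors_iff_left.2 fun z hz => by
      have := mem_nonZeroDivisors_iff_left.1 hfb (e.symm z)
        (e.injective (by rw [map_mul, RingEquiv.apply_symm_apply, hz, map_zero]))
      exact e.symm.injective (this.trans (map_zero _).symm))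
    (by simpa only [map_pow, RingEquiv.toRingHom_eq_coe, RingEquiv.coe_toRingHom] using map_dvd e.toRingHom (map_dvd f h))
  have h3 : f a ∈ (Ideal.span {b}).map f := by
    rw [Ideal.map_span, Set.image_singleton, Ideal.mem_span_singleton]
    have := map_dvd e.symm.toRingHom hK
    simpa using this
  have h4 : a ∈ ((Ideal.span {b}).map f).comap f := h3
  rw [Ideal.comap_map_eq_self_of_faithfullyFlat] at h4
  exact Ideal.mem_span_singleton.1 h4

theorem dvd_of_pow_dvd_of_isIntegrallyClosed {A : Type u} [CommRing A] [IsDomain A] [IsIntegrallyClosed A]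
    {p : ℕ} (hp : p ≠ 0) {a b : A} (h : b ^ p ∣ a ^ p) : b ∣ a :=
  (IsIntegrallyClosed.pow_dvd_pow_iff hp).1 h

section Scheme

variable {Z : Scheme.{u}} [IsReduced Z]

/-- A section vanishing on a dense part is zero. -/
theorem eq_zero_of_res {V : Z.Opens} (D : Z.Opens) (hDV : D ≤ V)
    (hD : ∀ O : Z.Opens, O ≤ V → O ⊓ D = ⊥ → O = ⊥) (z : Γ(Z, V))
    (hz : Z.presheaf.map (homOfLE hDV).op z = 0) : z = 0 := by
  rw [← basicOpen_eq_bot_iff]
  refine hD _ (Scheme.basicOpen_le _ _) ?_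
  rw [inf_comm, ← Scheme.basicOpen_res, hz, Scheme.basicOpen_zero]

end Scheme

theorem inf_eq_bot_of_dense {Z : Scheme.{u}} {U : Z.Opens} (hU : Dense (U : Set Z)) (O : Z.Opens)
    (h : O ⊓ U = ⊥) : O = ⊥ := by
  by_contra hne
  have hO : (O : Set Z).Nonempty := Set.nonempty_iff_ne_empty.2 fun e => hne (SetLike.coe_injective e)
  obtain ⟨x, hx⟩ := hU.inter_open_nonempty _ O.2 hO
  have : x ∈ O ⊓ U := hx
  rw [h] at this
  exact this

/-- A nonzerodivisor is invertible on a dense part. -/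
theorem inf_basicOpen_eq_bot {Z : Scheme.{u}} [IsReduced Z] {V : Z.Opens} (hV : IsAffineOpen V) {b : Γ(Z, V)}
    (hb : b ∈ nonZeroDivisors Γ(Z, V)) {O : Z.Opens} (hO : O ≤ V) (h : O ⊓ Z.basicOpen b = ⊥) : O = ⊥ := by
  refine le_bot_iff.1 fun x hx => ?_
  obtain ⟨g, hg, hxg⟩ := hV.exists_basicOpen_le (V := O) ⟨x, hx⟩ (hO hx)
  have h0 : g * b = 0 := by
    rw [← basicOpen_eq_bot_iff, Scheme.basicOpen_mul]
    exact le_bot_iff.1 ((inf_le_inf_right _ hg).trans h.le)
  rw [(mem_nonZeroDivisors_iff.1 hb).2 _ h0, Scheme.basicOpen_zero] at hxg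
  exact hxg

variable {C C' : Scheme.{u}} (π : C' ⟶ C) {U : C.Opens}

/-- Off a nonzerodivisor, upstairs is thin as well. -/
theorem preimage_inf_basicOpen_eq_bot [IsReduced C] [IsIso (π ∣_ U)] (hU' : Dense ((π ⁻¹ᵁ U : C'.Opens) : Set C'))
    {V : C.Opens} (hV : IsAffineOpen V) {b : Γ(C, V)} (hb : b ∈ nonZeroDivisors Γ(C, V))
    {O' : C'.Opens} (hO' : O' ≤ π ⁻¹ᵁ V) (he : O' ⊓ π ⁻¹ᵁ C.basicOpen b = ⊥) : O' = ⊥ := by
  refine inf_eq_bot_of_dense hU' O' ?_
  by_contra hne
  obtain ⟨y, hy, hyU⟩ := Set.nonempty_iff_ne_empty.2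
    (fun e => hne (SetLike.coe_injective e : O' ⊓ π ⁻¹ᵁ U = ⊥))
  let e := (π ∣_ U).homeomorph
  let Q : U.toScheme.Opens := ⟨e '' ((π ⁻¹ᵁ U).ι ⁻¹ᵁ O' : (π ⁻¹ᵁ U).toScheme.Opens),
    e.isOpenMap _ ((π ⁻¹ᵁ U).ι ⁻¹ᵁ O').2⟩
  have hQV : U.ι ''ᵁ Q ≤ V := by
    rintro _ ⟨_, ⟨y', hy', rfl⟩, rfl⟩
    show U.ι ((π ∣_ U) y') ∈ V
    rw [show U.ι ((π ∣_ U) y') = π y'.1 from morphismRestrict_base_coe π U y']
    exact hO' hy'
  have hbot : U.ι ''ᵁ Q = ⊥ := by
    refine inf_basicOpen_eq_bot hV hb hQV (le_bot_iff.1 ?_)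
    rintro _ ⟨⟨_, ⟨y', hy', rfl⟩, rfl⟩, hmem⟩
    have hyb : y'.1 ∈ O' ⊓ π ⁻¹ᵁ C.basicOpen b := ⟨hy', by
      show π y'.1 ∈ C.basicOpen b
      rw [← morphismRestrict_base_coe π U y']
      exact hmem⟩
    rw [he] at hyb
    exact hyb
  have hmem : U.ι (e ⟨y, hyU⟩) ∈ U.ι ''ᵁ Q := ⟨_, ⟨⟨y, hyU⟩, hy, rfl⟩, rfl⟩
  rw [hbot] at hmem
  exact hmem

section

variable [IsReduced C] (hU : Dense (U : Set C)) [IsIso (π ∣_ U)]

include hU in
theorem app_injective (V : C.Opens) : Function.Injective (π.app V) := by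
  refine (injective_iff_map_eq_zero _).2 fun a ha => ?_
  refine eq_zero_of_res (V ⊓ U) inf_le_left (fun O hO h => inf_eq_bot_of_dense hU O ?_) a ?_
  · rwa [← inf_assoc, inf_eq_left.2 hO] at h
  · haveI := BlowUpLib.isIso_app_of_le π U (inf_le_right : V ⊓ U ≤ U)
    refine (injective_iff_map_eq_zero _).1 (ConcreteCategory.bijective_of_isIso (π.app (V ⊓ U))).1 _ ?_
    rw [← ConcreteCategory.comp_apply, Scheme.Hom.naturality, ConcreteCategory.comp_apply, ha, map_zero]

include hU in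
/-- A nonzerodivisor supported in the dense open. -/
theorem exists_nzd [IsLocallyNoetherian C] {V : C.Opens} (hV : IsAffineOpen V) :
    ∃ b : Γ(C, V), b ∈ nonZeroDivisors Γ(C, V) ∧ C.basicOpen b ≤ U := by
  haveI : IsNoetherianRing Γ(C, V) := IsLocallyNoetherian.component_noetherian ⟨V, hV⟩
  let I : Ideal Γ(C, V) :=
    { carrier := {g | C.basicOpen g ≤ U}
      add_mem' := fun {a b} ha hb => (C.basicOpen_add_le a b).trans (sup_le ha hb)
      zero_mem' := by simp
      smul_mem' := fun a g hg => by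
        show C.basicOpen (a * g) ≤ U
        rw [Scheme.basicOpen_mul]
        exact inf_le_right.trans hg }
  by_contra hcon
  push Not at hcon
  have hsub : (I : Set Γ(C, V)) ⊆ ⋃ P ∈ associatedPrimes Γ(C, V) Γ(C, V), (P : Set Γ(C, V)) := by
    rw [biUnion_associatedPrimes_eq_compl_nonZeroDivisors]
    exact fun g hg hmem => hcon g hmem hg
  obtain ⟨P, hP, hIP⟩ := (Ideal.subset_union_prime_finite (associatedPrimes.finite _ _) ⊥ ⊥
    fun P hP _ _ => hP.isPrime).1 hsub
  obtain ⟨hPp, y, hy⟩ := isAssociatedPrime_iff.1 hP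
  have hy0 : y = 0 := by
    rw [← basicOpen_eq_bot_iff]
    refine inf_eq_bot_of_dense hU _ (le_bot_iff.1 fun x hx => ?_)
    obtain ⟨g, hgle, hxg⟩ := hV.exists_basicOpen_le (V := C.basicOpen y ⊓ U) ⟨x, hx⟩ (C.basicOpen_le y hx.1)
    have hg : g ∈ P := hIP (show C.basicOpen g ≤ U from hgle.trans inf_le_right)
    rw [hy, Submodule.mem_colon_singleton, Submodule.mem_bot, smul_eq_mul] at hg
    have hm : x ∈ C.basicOpen (g * y) := by rw [Scheme.basicOpen_mul]; exact ⟨hxg, hx.1⟩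
    rwa [hg, Scheme.basicOpen_zero] at hm
  refine hPp.ne_top ?_
  rw [hy, hy0, Ideal.eq_top_iff_one, Submodule.mem_colon_singleton]
  simp

include hU in
/-- The locus where a birational section comes from the base, for `p`-th roots. -/
theorem exists_lift_of_pow [IsReduced C'] (hU' : Dense ((π ⁻¹ᵁ U : C'.Opens) : Set C'))
    [IsLocallyNoetherian C] {p : ℕ} (x : C)
    (hx : ∀ a b : C.presheaf.stalk x, b ∈ nonZeroDivisors (C.presheaf.stalk x) → b ^ p ∣ a ^ p → b ∣ a)
    {O : C.Opens} (hxO : x ∈ O) (s : Γ(C', π ⁻¹ᵁ O)) (c : Γ(C, O)) (hc : π.app O c = s ^ p) :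
    ∃ (W : C.Opens) (hW : W ≤ O), x ∈ W ∧ ∃ t : Γ(C, W),
      π.app W t = C'.presheaf.map (homOfLE (π.preimage_mono hW)).op s := by
  obtain ⟨V, hV, hxV, hVO⟩ := exists_isAffineOpen_mem_and_subset (x := x) (U := O) hxO
  replace hVO : V ≤ O := hVO
  set s₁ := C'.presheaf.map (homOfLE (π.preimage_mono hVO)).op s
  set c₁ := C.presheaf.map (homOfLE hVO).op c
  have hc₁ : π.app V c₁ = s₁ ^ p := by
    simp only [c₁, s₁, ← map_pow, ← hc]
    exact ConcreteCategory.congr_hom (π.naturality (homOfLE hVO).op) c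
  obtain ⟨b, hb, hbU⟩ := exists_nzd hU hV
  haveI hiso := BlowUpLib.isIso_app_of_le π U hbU
  obtain ⟨h, hh⟩ := (ConcreteCategory.bijective_of_isIso (π.app (C.basicOpen b))).2
    (C'.presheaf.map (homOfLE (π.preimage_mono (C.basicOpen_le b))).op s₁)
  haveI := hV.isLocalization_basicOpen b
  obtain ⟨⟨a, ⟨_, n, rfl⟩⟩, hn⟩ := IsLocalization.surj (Submonoid.powers b) h
  -- the complement of `D(b)` is thin upstairs as well
  have hdense : ∀ O' : C'.Opens, O' ≤ π ⁻¹ᵁ V → O' ⊓ π ⁻¹ᵁ C.basicOpen b = ⊥ → O' = ⊥ :=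
    fun _ => preimage_inf_basicOpen_eq_bot π hU' hV hb
  have key : π.app V (b ^ n) * s₁ = π.app V a := by
    refine sub_eq_zero.1 (eq_zero_of_res (π ⁻¹ᵁ C.basicOpen b) (π.preimage_mono (C.basicOpen_le b)) hdense _ ?_)
    have nat : ∀ z, C'.presheaf.map (homOfLE (π.preimage_mono (C.basicOpen_le b))).op (π.app V z) =
        π.app (C.basicOpen b) (C.presheaf.map (homOfLE (C.basicOpen_le b)).op z) := fun z =>
      (ConcreteCategory.congr_hom (π.naturality (homOfLE (C.basicOpen_le b)).op) z).symm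
    rw [map_sub, map_mul, nat, nat, ← hh, ← map_mul, ← map_sub, sub_eq_zero.2, map_zero]
    rw [mul_comm]
    exact hn
  have hp2 : a ^ p = (b ^ n) ^ p * c₁ := app_injective π hU V (by
    rw [map_mul, map_pow, map_pow, hc₁, ← mul_pow, key])
  -- in the stalk
  have hbn : b ^ n ∈ nonZeroDivisors Γ(C, V) := pow_mem hb n
  letI := TopCat.Presheaf.algebra_section_stalk C.presheaf ⟨x, hxV⟩
  haveI := hV.isLocalization_stalk ⟨x, hxV⟩
  have hβ : C.presheaf.germ V x hxV (b ^ n) ∈ nonZeroDivisors (C.presheaf.stalk x) :=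
    IsLocalization.nonZeroDivisors_le_comap (hV.primeIdealOf ⟨x, hxV⟩).asIdeal.primeCompl
      (C.presheaf.stalk x) hbn
  obtain ⟨τ, hτ⟩ := hx (C.presheaf.germ V x hxV a) _ hβ ⟨C.presheaf.germ V x hxV c₁, by
    rw [← map_pow, ← map_pow, ← map_mul, hp2]⟩
  obtain ⟨W₀, hxW₀, t₀, rfl⟩ := C.presheaf.exists_germ_eq τ
  have hrel : C.presheaf.germ (V ⊓ W₀) x ⟨hxV, hxW₀⟩ (C.presheaf.map (homOfLE inf_le_left).op a) =
      C.presheaf.germ (V ⊓ W₀) x ⟨hxV, hxW₀⟩ (C.presheaf.map (homOfLE inf_le_left).op (b ^ n) *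
        C.presheaf.map (homOfLE inf_le_right).op t₀) := by
    rw [map_mul, TopCat.Presheaf.germ_res_apply, TopCat.Presheaf.germ_res_apply,
      TopCat.Presheaf.germ_res_apply]
    exact hτ
  obtain ⟨W, hxW, i₁, i₂, hWeq⟩ := C.presheaf.germ_eq (U := V ⊓ W₀) (V := V ⊓ W₀) x
    ⟨hxV, hxW₀⟩ ⟨hxV, hxW₀⟩ _ _ hrel
  have hWV : W ≤ V := i₁.le.trans inf_le_left
  refine ⟨W, hWV.trans hVO, hxW, C.presheaf.map (homOfLE (i₁.le.trans inf_le_right)).op t₀, ?_⟩
  refine sub_eq_zero.1 (eq_zero_of_res (π ⁻¹ᵁ (W ⊓ C.basicOpen b)) (π.preimage_mono inf_le_left)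
    (fun O' hO' he => hdense O' (hO'.trans (π.preimage_mono hWV)) ?_) _ ?_)
  · rw [← le_bot_iff]
    exact fun y hy => he.le ⟨hy.1, hO' hy.1, hy.2⟩
  · have hunit : IsUnit (C.presheaf.map (homOfLE ((inf_le_right : W ⊓ C.basicOpen b ≤ _).trans (C.basicOpen_le b))).op
        (b ^ n)) := by
      have h0 := (C.toRingedSpace.isUnit_res_basicOpen b).map (C.presheaf.map (homOfLE (inf_le_right : W ⊓ C.basicOpen b ≤ _)).op).hom
      rw [map_pow]
      refine IsUnit.pow n ?_
      have e : (C.presheaf.map (homOfLE (inf_le_right : W ⊓ C.basicOpen b ≤ _)).op)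
          ((C.presheaf.map (homOfLE (C.basicOpen_le b)).op) b) =
          C.presheaf.map (homOfLE ((inf_le_right : W ⊓ C.basicOpen b ≤ _).trans (C.basicOpen_le b))).op b := by
        rw [← ConcreteCategory.comp_apply, ← Functor.map_comp, ← op_comp, homOfLE_comp]
      exact e ▸ h0
    have nat : ∀ {A B : C.Opens} (hAB : A ≤ B) (z : Γ(C, B)), π.app A (C.presheaf.map (homOfLE hAB).op z) =
        C'.presheaf.map (homOfLE (π.preimage_mono hAB)).op (π.app B z) := fun hAB z =>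
      ConcreteCategory.congr_hom (π.naturality (homOfLE hAB).op) z
    have res : ∀ {Z : Scheme.{u}} {A B D : Z.Opens} (h₁ : A ≤ B) (h₂ : B ≤ D) (z : Γ(Z, D)),
        Z.presheaf.map (homOfLE h₁).op (Z.presheaf.map (homOfLE h₂).op z) =
          Z.presheaf.map (homOfLE (h₁.trans h₂)).op z := fun h₁ h₂ z => by
      rw [← ConcreteCategory.comp_apply, ← Functor.map_comp, ← op_comp, homOfLE_comp]
    have hD : W ⊓ C.basicOpen b ≤ V := inf_le_left.trans hWV
    have hD₀ : W ⊓ C.basicOpen b ≤ W₀ := inf_le_left.trans (i₁.le.trans inf_le_right)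
    have hW' := congrArg (C.presheaf.map (homOfLE (inf_le_left : W ⊓ C.basicOpen b ≤ W)).op) hWeq
    rw [show i₁ = homOfLE i₁.le from rfl, show i₂ = homOfLE i₂.le from rfl, map_mul, map_mul,
      res, res, res, res, res, res] at hW'
    have hkey := congrArg (C'.presheaf.map (homOfLE (π.preimage_mono hD)).op) key
    rw [map_mul, ← nat hD, ← nat hD, res] at hkey
    have hu := hunit.map (π.app (W ⊓ C.basicOpen b)).hom
    rw [map_sub, ← nat inf_le_left, res, res, sub_eq_zero]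
    refine hu.mul_left_cancel ?_
    show π.app (W ⊓ C.basicOpen b) (C.presheaf.map (homOfLE hD).op (b ^ n)) *
        π.app (W ⊓ C.basicOpen b) (C.presheaf.map (homOfLE hD₀).op t₀) = _
    rw [← map_mul, ← hW', ← hkey]

end

end Groth.Agent.NormSeq24
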