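import Groth.Agent.NormSeq24.Root
import Groth.Agent.NormSeq24.DeltaLen
import Groth.Agent.Coherent.Devissage
import Groth.Agent.ModStalk.Exact
import Groth.Prelude.Def_Pi1

/-!
# The stalks of the cokernel of `O → π_*O'` for a normalisation
-/

set_option autoImplicit false
set_option linter.style.haveILetI false
set_option backward.isDefEq.respectTransparency.types false
set_option maxHeartbeats 1000000

universe u

open CategoryTheory CategoryTheory.Limits AlgebraicGeometry TopologicalSpace Opposite Polynomial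

namespace Groth.Agent.NormSeq24

variable {C C' : Scheme.{u}} (π : C' ⟶ C) {U : C.Opens}

theorem res_res {Z : Scheme.{u}} {A B D : Z.Opens} (h₁ : A ≤ B) (h₂ : B ≤ D) (z : Γ(Z, D)) :
    Z.presheaf.map (homOfLE h₁).op (Z.presheaf.map (homOfLE h₂).op z) =
      Z.presheaf.map (homOfLE (h₁.trans h₂)).op z := by
  rw [← ConcreteCategory.comp_apply, ← Functor.map_comp, ← op_comp, homOfLE_comp]

theorem app_res {A B : C.Opens} (h : A ≤ B) (z : Γ(C, B)) :
    π.app A (C.presheaf.map (homOfLE h).op z) =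
      C'.presheaf.map (homOfLE (π.preimage_mono h)).op (π.app B z) :=
  ConcreteCategory.congr_hom (π.naturality (homOfLE h).op) z

theorem map_scaleRoots_of_monic {R S : Type u} [CommRing R] [CommRing S] {f : R →+* S} {P : R[X]} {b : R}
    (hP : P.Monic) : (P.scaleRoots b).map f = (P.map f).scaleRoots (f b) := by
  nontriviality S
  exact Polynomial.map_scaleRoots P b f (by rw [hP.leadingCoeff, map_one]; exact one_ne_zero)

/-- A nonzerodivisor at a point is one on a neighbourhood. -/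
theorem exists_nhd_nzd [IsLocallyNoetherian C] {x : C} {O : C.Opens} (hx : x ∈ O) (c : Γ(C, O))
    (hc : C.presheaf.germ O x hx c ∈ nonZeroDivisors (C.presheaf.stalk x)) :
    ∃ (V : C.Opens) (hV : V ≤ O), IsAffineOpen V ∧ x ∈ V ∧
      C.presheaf.map (homOfLE hV).op c ∈ nonZeroDivisors Γ(C, V) := by
  classical
  obtain ⟨V, hV, hxV, hVO⟩ := exists_isAffineOpen_mem_and_subset (x := x) (U := O) hx
  replace hVO : V ≤ O := hVO
  haveI : IsNoetherianRing Γ(C, V) := IsLocallyNoetherian.component_noetherian ⟨V, hV⟩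
  set d := C.presheaf.map (homOfLE hVO).op c
  letI := TopCat.Presheaf.algebra_section_stalk C.presheaf (⟨x, hxV⟩ : V)
  haveI := hV.isLocalization_stalk ⟨x, hxV⟩
  obtain ⟨T, hT⟩ := (IsNoetherian.noetherian (LinearMap.ker (LinearMap.mulLeft Γ(C, V) d)))
  have hz : ∀ y : Γ(C, V), d * y = 0 → ∃ g : (hV.primeIdealOf ⟨x, hxV⟩).asIdeal.primeCompl, (g : Γ(C, V)) * y = 0 := by
    intro y hy
    refine (IsLocalization.map_eq_zero_iff (hV.primeIdealOf ⟨x, hxV⟩).asIdeal.primeCompl (C.presheaf.stalk x) y).1 ?_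
    refine mem_nonZeroDivisors_iff_left.1 hc _ ?_
    rw [← TopCat.Presheaf.germ_res_apply C.presheaf (homOfLE hVO) x hxV]
    show C.presheaf.germ V x hxV d * C.presheaf.germ V x hxV y = 0
    rw [← map_mul, hy, map_zero]
  choose g hg using hz
  have hmemT : ∀ y ∈ T, d * y = 0 := fun y hy => hT.le (Submodule.subset_span hy)
  let G : Γ(C, V) := ∏ y ∈ T.attach, (g y.1 (hmemT _ y.2) : Γ(C, V))
  have hG : G ∈ (hV.primeIdealOf ⟨x, hxV⟩).asIdeal.primeCompl :=
    prod_mem fun y _ => (g y.1 (hmemT _ y.2)).2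
  have hkill : ∀ y, d * y = 0 → G * y = 0 := by
    intro y hy
    have hy' : y ∈ Submodule.span Γ(C, V) (T : Set Γ(C, V)) := hT.ge hy
    induction hy' using Submodule.span_induction with
    | mem z hz =>
      obtain ⟨q, hq⟩ : (g z (hmemT z hz) : Γ(C, V)) ∣ G :=
        Finset.dvd_prod_of_mem (fun y : T => (g y.1 (hmemT _ y.2) : Γ(C, V))) (Finset.mem_attach T ⟨z, hz⟩)
      rw [hq, mul_right_comm, hg, zero_mul]
    | zero => rw [mul_zero]
    | add a b ha hb iha ihb =>
      rw [mul_add, iha (hT.le ha), ihb (hT.le hb), add_zero]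
    | smul r a ha iha => rw [smul_eq_mul, mul_left_comm, iha (hT.le ha), mul_zero]
  refine ⟨C.basicOpen G, (C.basicOpen_le G).trans hVO, hV.basicOpen G, ?_, ?_⟩
  · rw [Scheme.mem_basicOpen _ _ _ hxV]
    exact IsLocalization.map_units (C.presheaf.stalk x) (⟨G, hG⟩ : (hV.primeIdealOf ⟨x, hxV⟩).asIdeal.primeCompl)
  · rw [← res_res (C.basicOpen_le G) hVO]
    letI := (C.presheaf.map (homOfLE (C.basicOpen_le G)).op).hom.toAlgebra
    haveI := hV.isLocalization_of_eq_basicOpen G (homOfLE (C.basicOpen_le G)) rfl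
    refine mem_nonZeroDivisors_iff_left.2 fun z hz => ?_
    obtain ⟨⟨y, s⟩, hys⟩ := IsLocalization.surj (Submonoid.powers G) z
    have h0 : algebraMap Γ(C, V) Γ(C, C.basicOpen G) (d * y) = 0 := by
      rw [map_mul, ← hys, ← mul_assoc, show algebraMap Γ(C, V) Γ(C, C.basicOpen G) d = _ from rfl]
      exact mul_eq_zero_of_left hz _
    obtain ⟨⟨_, n, rfl⟩, hm⟩ := (IsLocalization.map_eq_zero_iff (Submonoid.powers G) _ _).1 h0
    have h1 := hkill (G ^ n * y) (by rw [← mul_left_comm]; exact hm)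
    rw [← mul_assoc, ← pow_succ'] at h1
    have h2 : algebraMap Γ(C, V) Γ(C, C.basicOpen G) y = 0 :=
      (IsLocalization.map_eq_zero_iff (Submonoid.powers G) _ _).2 ⟨⟨_, n + 1, rfl⟩, h1⟩
    rw [h2] at hys
    exact (IsLocalization.map_units _ s).mul_left_eq_zero.1 hys

/-- Division by an element which is nonzero at every point of a normal scheme. -/
theorem dvd_of_scaleRoots {Z : Scheme.{u}} (hZ : Pi1.IsNormalScheme Z) {W : Z.Opens} (hW : IsAffineOpen W)
    (b c : Γ(Z, W)) (hb : ∀ (y : Z) (hy : y ∈ W), Z.presheaf.germ W y hy b ≠ 0)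
    (P : Γ(Z, W)[X]) (hP : P.Monic) (h : (P.scaleRoots b).eval c = 0) : b ∣ c := by
  let I : Ideal Γ(Z, W) := (Ideal.span {b}).colon ({c} : Set Γ(Z, W))
  suffices hI : I = ⊤ by
    have h1 : (1 : Γ(Z, W)) ∈ I := hI ▸ Submodule.mem_top
    rw [Submodule.mem_colon_singleton, one_smul, Ideal.mem_span_singleton] at h1
    exact h1
  by_contra hI
  obtain ⟨M, hM, hIM⟩ := Ideal.exists_le_maximal I hI
  let pt : PrimeSpectrum Γ(Z, W) := ⟨M, hM.isPrime⟩
  have hy : hW.fromSpec pt ∈ W := hW.fromSpec_preimage_self.ge (show pt ∈ (⊤ : (Spec Γ(Z, W)).Opens) from trivial)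
  let y := hW.fromSpec pt
  have hM' : (hW.primeIdealOf ⟨y, hy⟩).asIdeal = M := congrArg PrimeSpectrum.asIdeal
    (hW.fromSpec.isOpenEmbedding.injective (hW.fromSpec_primeIdealOf ⟨y, hy⟩))
  letI := TopCat.Presheaf.algebra_section_stalk Z.presheaf (⟨y, hy⟩ : W)
  haveI := hW.isLocalization_stalk ⟨y, hy⟩
  haveI := (hZ y).1
  haveI := (hZ y).2
  let φ : Γ(Z, W) →+* FractionRing (Z.presheaf.stalk y) :=
    (algebraMap (Z.presheaf.stalk y) _).comp (Z.presheaf.germ W y hy).hom
  have hb0 : φ b ≠ 0 := fun h0 => hb y hy ((map_eq_zero_iff _ (IsFractionRing.injective _ _)).1 h0)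
  have hint : IsIntegral (Z.presheaf.stalk y) (φ c / φ b) := by
    refine ⟨P.map (Z.presheaf.germ W y hy).hom, hP.map _, ?_⟩
    rw [Polynomial.eval₂_map]
    have e := congrArg φ h
    rw [map_zero, ← Polynomial.eval₂_at_apply, show φ c = φ b * (φ c / φ b) from (mul_div_cancel₀ _ hb0).symm,
      Polynomial.scaleRoots_eval₂_mul] at e
    exact (mul_eq_zero.1 e).resolve_left (pow_ne_zero _ hb0)
  obtain ⟨q, hq⟩ := IsIntegrallyClosed.isIntegral_iff.1 hint
  obtain ⟨⟨z, s⟩, hzs⟩ := IsLocalization.surj (hW.primeIdealOf ⟨y, hy⟩).asIdeal.primeCompl q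
  have e2 : algebraMap Γ(Z, W) (Z.presheaf.stalk y) (b * z) = algebraMap Γ(Z, W) (Z.presheaf.stalk y) (c * s) := by
    apply IsFractionRing.injective (Z.presheaf.stalk y) (FractionRing (Z.presheaf.stalk y))
    rw [map_mul, map_mul, map_mul, map_mul, ← hzs, map_mul, hq]
    show φ b * (φ c / φ b * φ s) = φ c * φ s
    rw [← mul_assoc, mul_div_cancel₀ _ hb0]
  obtain ⟨r, hr⟩ := IsLocalization.exists_of_eq (M := (hW.primeIdealOf ⟨y, hy⟩).asIdeal.primeCompl) e2
  have hrs : (r : Γ(Z, W)) * s ∈ I := by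
    rw [Submodule.mem_colon_singleton, smul_eq_mul, Ideal.mem_span_singleton]
    exact ⟨r * z, by linear_combination -hr⟩
  exact (r * s).2 (show (r : Γ(Z, W)) * s ∈ (hW.primeIdealOf ⟨y, hy⟩).asIdeal from (SetLike.ext_iff.1 hM' _).2 (hIM hrs))

variable [IsReduced C] [IsReduced C'] (hU : Dense (U : Set C)) (hU' : Dense ((π ⁻¹ᵁ U : C'.Opens) : Set C'))
  [IsIso (π ∣_ U)]

include hU hU' in
/-- Sections upstairs are fractions of sections downstairs. -/
theorem exists_fraction [IsLocallyNoetherian C] {V : C.Opens} (hV : IsAffineOpen V) (s : Γ(C', π ⁻¹ᵁ V)) :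
    ∃ β ∈ nonZeroDivisors Γ(C, V), ∃ a : Γ(C, V), π.app V β * s = π.app V a := by
  obtain ⟨b, hb, hbU⟩ := exists_nzd hU hV
  haveI hiso := BlowUpLib.isIso_app_of_le π U hbU
  obtain ⟨h, hh⟩ := (ConcreteCategory.bijective_of_isIso (π.app (C.basicOpen b))).2
    (C'.presheaf.map (homOfLE (π.preimage_mono (C.basicOpen_le b))).op s)
  haveI := hV.isLocalization_basicOpen b
  obtain ⟨⟨a, ⟨_, n, rfl⟩⟩, hn⟩ := IsLocalization.surj (Submonoid.powers b) h
  refine ⟨b ^ n, pow_mem hb n, a, sub_eq_zero.1 (eq_zero_of_res (π ⁻¹ᵁ C.basicOpen b)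
    (π.preimage_mono (C.basicOpen_le b)) (fun O' => preimage_inf_basicOpen_eq_bot π hU' hV hb) _ ?_)⟩
  rw [map_sub, map_mul, ← app_res, ← app_res, ← hh, ← map_mul, ← map_sub, sub_eq_zero.2, map_zero]
  rw [mul_comm]
  exact hn

include hU' in
/-- A nonzerodivisor stays regular upstairs. -/
theorem eq_zero_of_app_mul {V : C.Opens} (hV : IsAffineOpen V) {β : Γ(C, V)} (hβ : β ∈ nonZeroDivisors Γ(C, V))
    (s : Γ(C', π ⁻¹ᵁ V)) (h : π.app V β * s = 0) : s = 0 := by
  refine eq_zero_of_res (π ⁻¹ᵁ C.basicOpen β) (π.preimage_mono (C.basicOpen_le β))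
    (fun O' => preimage_inf_basicOpen_eq_bot π hU' hV hβ) s ?_
  have h0 := congrArg (C'.presheaf.map (homOfLE (π.preimage_mono (C.basicOpen_le β))).op) h
  rw [map_mul, map_zero, ← app_res π (C.basicOpen_le β)] at h0
  exact ((C.toRingedSpace.isUnit_res_basicOpen β).map (π.app (C.basicOpen β)).hom).mul_right_eq_zero.1 h0

include hU' in
theorem germ_app_ne_zero {V : C.Opens} (hV : IsAffineOpen V) {β : Γ(C, V)} (hβ : β ∈ nonZeroDivisors Γ(C, V))
    (hN : Pi1.IsNormalScheme C') (y : C') (hy : y ∈ π ⁻¹ᵁ V) :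
    C'.presheaf.germ (π ⁻¹ᵁ V) y hy (π.app V β) ≠ 0 := by
  intro h0
  obtain ⟨O, hyO, i, j, hO⟩ := C'.presheaf.germ_eq (U := π ⁻¹ᵁ V) (V := π ⁻¹ᵁ V) y hy hy _ 0
    (h0.trans (map_zero _).symm)
  rw [map_zero, show i = homOfLE i.le from rfl] at hO
  have hbot : O = ⊥ := preimage_inf_basicOpen_eq_bot π hU' hV hβ i.le (le_bot_iff.1 fun z hz => by
    have hz' : z ∈ C'.basicOpen (C'.presheaf.map (homOfLE i.le).op (π.app V β)) := by
      rw [Scheme.basicOpen_res, ← Scheme.preimage_basicOpen]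
      exact hz
    rw [hO, Scheme.basicOpen_zero] at hz'
    exact hz')
  rw [hbot] at hyO
  exact hyO

/-- The push forward of the structure sheaf. -/
noncomputable abbrev pushO : C.Modules := (Coh.push π).obj (Coh.structureModule C')

/-- Its germs. -/
noncomputable abbrev germP {x : C} {V : C.Opens} (hx : x ∈ V) (s : Γ(C', π ⁻¹ᵁ V)) : (pushO π).presheaf.stalk x :=
  (pushO π).presheaf.germ V x hx s

omit [IsReduced C] [IsReduced C'] [IsIso (π ∣_ U)] in
theorem germP_smul {x : C} {V : C.Opens} (hx : x ∈ V) (c : Γ(C, V)) (s : Γ(C', π ⁻¹ᵁ V)) :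
    C.presheaf.germ V x hx c • germP π hx s = germP π hx (π.app V c * s) :=
  (QCohLoc.germ_smul' (pushO π) hx c s).symm

omit [IsReduced C] [IsReduced C'] [IsIso (π ∣_ U)] in
theorem germP_res {x : C} {V W : C.Opens} (h : W ≤ V) (hx : x ∈ W) (s : Γ(C', π ⁻¹ᵁ V)) :
    germP π hx (C'.presheaf.map (homOfLE (π.preimage_mono h)).op s) = germP π (h hx) s :=
  TopCat.Presheaf.germ_res_apply (pushO π).presheaf (homOfLE h) x hx s

omit [IsReduced C] [IsReduced C'] [IsIso (π ∣_ U)] in
theorem exists_germP {x : C} (v : (pushO π).presheaf.stalk x) {O : C.Opens} (hx : x ∈ O) :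
    ∃ (V : C.Opens) (hV : V ≤ O), IsAffineOpen V ∧ ∃ (hxV : x ∈ V) (s : Γ(C', π ⁻¹ᵁ V)), germP π hxV s = v := by
  obtain ⟨W, hxW, s, rfl⟩ := (pushO π).presheaf.exists_germ_eq v
  obtain ⟨V, hV, hxV, hVW⟩ := exists_isAffineOpen_mem_and_subset (x := x) (U := O ⊓ W) ⟨hx, hxW⟩
  replace hVW : V ≤ O ⊓ W := hVW
  exact ⟨V, hVW.trans inf_le_left, hV, hxV, _, germP_res π (hVW.trans inf_le_right) hxV s⟩

omit [IsReduced C] [IsReduced C'] [IsIso (π ∣_ U)] in
theorem germP_eq {x : C} {V : C.Opens} (hx : x ∈ V) (s t : Γ(C', π ⁻¹ᵁ V)) (h : germP π hx s = germP π hx t) :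
    ∃ (W : C.Opens) (hW : W ≤ V), IsAffineOpen W ∧ x ∈ W ∧
      C'.presheaf.map (homOfLE (π.preimage_mono hW)).op s = C'.presheaf.map (homOfLE (π.preimage_mono hW)).op t := by
  obtain ⟨W, hxW, i, j, e⟩ := (pushO π).presheaf.germ_eq (U := V) (V := V) x hx hx _ _ h
  obtain ⟨W', hW', hxW', hle⟩ := exists_isAffineOpen_mem_and_subset (x := x) (U := W) hxW
  replace hle : W' ≤ W := hle
  refine ⟨W', hle.trans i.le, hW', hxW', ?_⟩
  have e' : C'.presheaf.map (homOfLE (π.preimage_mono i.le)).op s =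
      C'.presheaf.map (homOfLE (π.preimage_mono i.le)).op t := e
  have := congrArg (C'.presheaf.map (homOfLE (π.preimage_mono hle)).op) e'
  rwa [res_res, res_res] at this

include hU hU' in
/-- `δ` is the length of the stalk of the cokernel. -/
theorem length_stalk_cokernel [IsLocallyNoetherian C] [IsFinite π] (hN : Pi1.IsNormalScheme C') (x : C) :
    Module.length (C.presheaf.stalk x) ((cokernel (ClSub.unitToPush π)).presheaf.stalk x) =
      Curv2.deltaInv (C.presheaf.stalk x) := by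
  let A := C.presheaf.stalk x
  let one : (pushO π).presheaf.stalk x := germP π (show x ∈ (⊤ : C.Opens) from trivial) 1
  let f : A →ₗ[A] (pushO π).presheaf.stalk x := LinearMap.toSpanSingleton A _ one
  have hf : ∀ {V : C.Opens} (hx : x ∈ V) (c : Γ(C, V)),
      f (C.presheaf.germ V x hx c) = germP π hx (π.app V c) := fun {V} hx c => by
    show C.presheaf.germ V x hx c • one = _
    rw [show one = germP π hx 1 from by
      rw [← map_one (C'.presheaf.map (homOfLE (π.preimage_mono (le_top : V ≤ ⊤))).op).hom]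
      exact (germP_res π (le_top : V ≤ ⊤) hx 1).symm, germP_smul, mul_one]
  have hfinj : Function.Injective f := (injective_iff_map_eq_zero f).2 fun c hc => by
    obtain ⟨V, hxV, c, rfl⟩ := C.presheaf.exists_germ_eq c
    rw [hf] at hc
    obtain ⟨W, hW, -, hxW, e⟩ := germP_eq π hxV _ 0 (hc.trans (map_zero _).symm)
    rw [map_zero, ← app_res π hW] at e
    rw [← TopCat.Presheaf.germ_res_apply C.presheaf (homOfLE hW) x hxW,
      (injective_iff_map_eq_zero _).1 (app_injective π hU W) _ e, map_zero]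
  -- a common affine neighbourhood for a numerator, a regular denominator and an element
  have hrep : ∀ (a β : A) (v : (pushO π).presheaf.stalk x), β ∈ nonZeroDivisors A →
      ∃ (V : C.Opens) (_ : IsAffineOpen V) (hx : x ∈ V) (a' b' : Γ(C, V)) (v' : Γ(C', π ⁻¹ᵁ V)),
        b' ∈ nonZeroDivisors Γ(C, V) ∧ C.presheaf.germ V x hx a' = a ∧ C.presheaf.germ V x hx b' = β ∧
          germP π hx v' = v := by
    intro a β v hβ
    obtain ⟨O₁, hx₁, a₁, rfl⟩ := C.presheaf.exists_germ_eq a
    obtain ⟨O₂, hx₂, b₂, rfl⟩ := C.presheaf.exists_germ_eq β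
    obtain ⟨O, hO, -, hxO, v₁, rfl⟩ := exists_germP π v (show x ∈ O₁ ⊓ O₂ from ⟨hx₁, hx₂⟩)
    obtain ⟨V, hV, hVaff, hxV, hnz⟩ := exists_nhd_nzd hxO (C.presheaf.map (homOfLE (hO.trans inf_le_right)).op b₂)
      (by rwa [TopCat.Presheaf.germ_res_apply])
    refine ⟨V, hVaff, hxV, C.presheaf.map (homOfLE (hV.trans (hO.trans inf_le_left))).op a₁, _,
      C'.presheaf.map (homOfLE (π.preimage_mono hV)).op v₁, hnz, ?_, ?_, germP_res π hV hxV v₁⟩
    · rw [TopCat.Presheaf.germ_res_apply]
    · rw [TopCat.Presheaf.germ_res_apply, TopCat.Presheaf.germ_res_apply]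
  have hlen : Curv2.deltaInv A = Module.length A ((pushO π).presheaf.stalk x ⧸ LinearMap.range f) := by
    refine deltaInv_eq_length f hfinj ?_ ?_ ?_ ?_
    · intro v
      obtain ⟨V, -, hV, hxV, s, rfl⟩ := exists_germP π v (show x ∈ (⊤ : C.Opens) from trivial)
      obtain ⟨β, hβ, a, ha⟩ := exists_fraction π hU hU' hV s
      letI := TopCat.Presheaf.algebra_section_stalk C.presheaf (⟨x, hxV⟩ : V)
      haveI := hV.isLocalization_stalk ⟨x, hxV⟩
      exact ⟨C.presheaf.germ V x hxV β,
        IsLocalization.nonZeroDivisors_le_comap (hV.primeIdealOf ⟨x, hxV⟩).asIdeal.primeCompl (C.presheaf.stalk x) hβ,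
        C.presheaf.germ V x hxV a, by rw [germP_smul, hf, ha]⟩
    · intro β hβ v hv
      obtain ⟨V, hV, hxV, -, b, s, hb, -, rfl, rfl⟩ := hrep 0 β v hβ
      rw [germP_smul] at hv
      obtain ⟨W₀, hW₀, -, hxW₀, e⟩ := germP_eq π hxV _ 0 (hv.trans (map_zero _).symm)
      rw [map_zero, map_mul, ← app_res π hW₀] at e
      obtain ⟨W, hW, hWaff, hxW, hbW⟩ := exists_nhd_nzd hxW₀ (C.presheaf.map (homOfLE hW₀).op b)
        (by rwa [TopCat.Presheaf.germ_res_apply])
      rw [res_res] at hbW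
      have e' := congrArg (C'.presheaf.map (homOfLE (π.preimage_mono hW)).op) e
      rw [map_zero, map_mul, ← app_res π hW, res_res, res_res] at e'
      rw [← germP_res π (hW.trans hW₀) hxW s, eq_zero_of_app_mul π hU' hWaff hbW _ e']
      exact map_zero _
    · intro v a β hv
      obtain ⟨V₀, -, hxV₀, a₀, b₀, s₀, -, ha₀, hb₀, rfl⟩ := hrep a β v β.2
      rw [← ha₀, ← hb₀, germP_smul, hf] at hv
      obtain ⟨V, hle, hV, hxV, e⟩ := germP_eq π hxV₀ _ _ hv
      rw [map_mul, ← app_res π hle, ← app_res π hle] at e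
      set a' := C.presheaf.map (homOfLE hle).op a₀
      set b' := C.presheaf.map (homOfLE hle).op b₀
      obtain ⟨P, hP, hPs⟩ := (π.finite_app _ hV).to_isIntegral (C'.presheaf.map (homOfLE (π.preimage_mono hle)).op s₀)
      have h0 : (P.scaleRoots b').eval a' = 0 := app_injective π hU V (by
        rw [map_zero, ← Polynomial.eval₂_at_apply, ← e, Polynomial.scaleRoots_eval₂_mul, hPs, mul_zero])
      refine ⟨P.map (C.presheaf.germ V x hxV).hom, hP.map _, ?_⟩
      rw [Polynomial.eval₂_map]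
      set h := (algebraMap A (FractionRing A)).comp (C.presheaf.germ V x hxV).hom
      have ha' : h a' = h b' * IsLocalization.mk' (FractionRing A) a β := by
        show algebraMap A _ (C.presheaf.germ V x hxV a') = algebraMap A _ (C.presheaf.germ V x hxV b') * _
        rw [TopCat.Presheaf.germ_res_apply, TopCat.Presheaf.germ_res_apply, ha₀, hb₀, IsLocalization.mk'_spec']
      have h1 := congrArg h h0
      rw [map_zero, ← Polynomial.eval₂_at_apply, ha', Polynomial.scaleRoots_eval₂_mul] at h1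
      refine (IsUnit.pow _ ?_).mul_right_eq_zero.1 h1
      show IsUnit (algebraMap A _ (C.presheaf.germ V x hxV b'))
      rw [TopCat.Presheaf.germ_res_apply, hb₀]
      exact IsLocalization.map_units (FractionRing A) β
    · intro a β hint
      obtain ⟨V, hV, hxV, a', b', -, hb', rfl, hb₀, -⟩ := hrep a β 0 β.2
      letI := TopCat.Presheaf.algebra_section_stalk C.presheaf (⟨x, hxV⟩ : V)
      haveI := hV.isLocalization_stalk ⟨x, hxV⟩
      obtain ⟨g, hg⟩ := IsIntegral.exists_multiple_integral_of_isLocalization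
        (hV.primeIdealOf ⟨x, hxV⟩).asIdeal.primeCompl (IsLocalization.mk' (FractionRing A) (C.presheaf.germ V x hxV a') β) hint
      obtain ⟨P, hP, hPt⟩ := hg
      rw [Submonoid.smul_def] at hPt
      have h1 : algebraMap Γ(C, V) (FractionRing A) ((P.scaleRoots b').eval ((g : Γ(C, V)) * a')) = 0 := by
        rw [← Polynomial.eval₂_at_apply]
        rw [show algebraMap Γ(C, V) (FractionRing A) ((g : Γ(C, V)) * a') = algebraMap Γ(C, V) (FractionRing A) b' *
          ((g : Γ(C, V)) • IsLocalization.mk' (FractionRing A) (C.presheaf.germ V x hxV a') β) from by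
          rw [Algebra.smul_def, map_mul, mul_left_comm]
          congr 1
          show algebraMap A _ (C.presheaf.germ V x hxV a') = algebraMap A _ (C.presheaf.germ V x hxV b') * _
          rw [hb₀, IsLocalization.mk'_spec'], Polynomial.scaleRoots_eval₂_mul, hPt, mul_zero]
      have h2 : C.presheaf.germ V x hxV ((P.scaleRoots b').eval ((g : Γ(C, V)) * a')) = C.presheaf.germ V x hxV 0 := by
        rw [map_zero]; exact IsFractionRing.injective A (FractionRing A) (h1.trans (map_zero _).symm)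
      obtain ⟨O, hxO, i, j, e⟩ := C.presheaf.germ_eq (U := V) (V := V) x hxV hxV _ _ h2
      rw [map_zero, show i = homOfLE i.le from rfl] at e
      obtain ⟨W, hWO, hW, hxW, hbW⟩ := exists_nhd_nzd hxO (C.presheaf.map (homOfLE i.le).op b')
        (by rw [TopCat.Presheaf.germ_res_apply, hb₀]; exact β.2)
      rw [res_res] at hbW
      have hWV : W ≤ V := hWO.trans i.le
      set r := (C.presheaf.map (homOfLE hWV).op).hom
      have eW : ((P.map r).scaleRoots (r b')).eval (r ((g : Γ(C, V)) * a')) = 0 := by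
        have h3 := congrArg (C.presheaf.map (homOfLE hWO).op) e
        rw [res_res, map_zero] at h3
        rw [← map_scaleRoots_of_monic hP, Polynomial.eval_map, Polynomial.eval₂_at_apply]
        exact h3
      set q := (π.app W).hom
      obtain ⟨z, hz⟩ := dvd_of_scaleRoots hN (hW.preimage π) (q (r b')) (q (r ((g : Γ(C, V)) * a')))
        (fun y hy => germ_app_ne_zero π hU' hW hbW hN y hy) ((P.map r).map q) ((hP.map r).map q) (by
          rw [← map_scaleRoots_of_monic (hP.map r), Polynomial.eval_map, Polynomial.eval₂_at_apply, eW, map_zero])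
      have hu := IsLocalization.map_units (C.presheaf.stalk x) g
      refine ⟨(↑hu.unit⁻¹ : A) • germP π hxW z, ?_⟩
      have key : (β : A) • germP π hxW z = algebraMap Γ(C, V) A g • f (C.presheaf.germ V x hxV a') := by
        rw [← map_smul f, smul_eq_mul]
        show _ = f (C.presheaf.germ V x hxV g * C.presheaf.germ V x hxV a')
        rw [← map_mul, ← hb₀, ← TopCat.Presheaf.germ_res_apply C.presheaf (homOfLE hWV) x hxW ((g : Γ(C, V)) * a'),
          ← TopCat.Presheaf.germ_res_apply C.presheaf (homOfLE hWV) x hxW b', germP_smul, hf]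
        exact congrArg (germP π hxW) hz.symm
      rw [smul_comm, key, smul_smul, IsUnit.val_inv_mul, one_smul]
  rw [hlen]
  let u := ClSub.unitToPush π
  let F := DerSch.stalkFunctor C x
  let S := ShortComplex.mk u (cokernel.π u) (cokernel.condition u)
  have hS : S.Exact := S.exact_of_g_is_cokernel (cokernelIsCokernel u)
  have hF := (hS.map F).moduleCat_range_eq_ker
  haveI : Epi (F.map (cokernel.π u)) := inferInstance
  have hsurj : Function.Surjective (F.map (cokernel.π u)) := (ModuleCat.epi_iff_surjective _).1 inferInstance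
  refine ((((F.map (cokernel.π u)).hom.quotKerEquivOfSurjective hsurj).symm.trans
    (Submodule.quotEquivOfEq _ _ ?_)).length_eq)
  rw [show LinearMap.ker (F.map (cokernel.π u)).hom = LinearMap.range (F.map u).hom from hF.symm]
  refine le_antisymm ?_ ?_
  · rintro _ ⟨v, rfl⟩
    obtain ⟨V, hxV, c, rfl⟩ := (Coh.structureModule C).presheaf.exists_germ_eq v
    exact ⟨C.presheaf.germ V x hxV c, (hf hxV c).trans (Coherent.stalk_map_germ u hxV c).symm⟩
  · rintro _ ⟨c, rfl⟩
    obtain ⟨V, hxV, c, rfl⟩ := C.presheaf.exists_germ_eq c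
    exact ⟨(Coh.structureModule C).presheaf.germ V x hxV c, (Coherent.stalk_map_germ u hxV c).trans (hf hxV c).symm⟩

end Groth.Agent.NormSeq24
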